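import Groth.Agent.L23.AdeqSite.Fppf
import Mathlib.AlgebraicGeometry.Morphisms.QuasiSeparated

/-!
# Pushforward of adequate modules along quasi-compact quasi-separated morphisms
-/

universe u

open CategoryTheory Limits Opposite AlgebraicGeometry TensorProduct

set_option backward.isDefEq.respectTransparency.types false
set_option linter.style.haveILetI false

namespace Groth.L23.Adq

open _root_.Adeq

noncomputable section

theorem exists_preimage_of_isPullback {P X Y Z : Scheme.{u}} {p : P ⟶ X} {q : P ⟶ Y} {f : X ⟶ Z} {g : Y ⟶ Z}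
    (h : IsPullback p q f g) (x : ↥X) (y : ↥Y) (hxy : f x = g y) : ∃ z : ↥P, p z = x ∧ q z = y := by
  obtain ⟨z, hz₁, hz₂⟩ := Scheme.Pullback.exists_preimage_pullback x y hxy
  exact ⟨h.isoPullback.inv z,
    (Scheme.Hom.comp_apply _ _ z).symm.trans ((congrArg (fun k => k z) h.isoPullback_inv_fst).trans hz₁),
    (Scheme.Hom.comp_apply _ _ z).symm.trans ((congrArg (fun k => k z) h.isoPullback_inv_snd).trans hz₂)⟩

theorem exists_finite_affine_family (X : Scheme.{u}) [CompactSpace X] :
    ∃ (ι : Type u) (_ : Fintype ι) (A : ι → CommRingCat.{u}) (j : ∀ i, Spec (A i) ⟶ X),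
      (∀ i, IsOpenImmersion (j i)) ∧ ∀ x : ↥X, ∃ i y, j i y = x := by
  classical
  obtain ⟨t, ht⟩ := isCompact_univ.elim_finite_subcover (fun x => Set.range (X.affineCover.f (X.affineCover.idx x)))
    (fun x => (IsOpenImmersion.isOpen_range (X.affineCover.f _)))
    (fun x _ => Set.mem_iUnion.2 ⟨x, X.affineCover.covers x⟩)
  refine ⟨t, inferInstance, fun i => Γ(X.affineCover.X (X.affineCover.idx i.1), ⊤),
    fun i => (X.affineCover.X (X.affineCover.idx i.1)).isoSpec.inv ≫ X.affineCover.f (X.affineCover.idx i.1),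
    fun i => inferInstance, fun x => ?_⟩
  obtain ⟨x', hx', y, hy⟩ := Set.mem_iUnion₂.1 (ht (Set.mem_univ x))
  refine ⟨⟨x', hx'⟩, (X.affineCover.X (X.affineCover.idx x')).isoSpec.hom y, ?_⟩
  rw [Scheme.Hom.comp_apply, ← Scheme.Hom.comp_apply (X.affineCover.X (X.affineCover.idx x')).isoSpec.hom,
    Iso.hom_inv_id]
  exact hy

variable {S T : Scheme.{u}} (f : T ⟶ S) {R : CommRingCat.{u}} (a : Spec R ⟶ S)

section Geometry

variable (B : Alg R)

/-- The object over which sections of a push forward are taken. -/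
abbrev pbObj : Over T := (Over.pullback f).obj ((specOver a).obj (op B))

/-- The structure map of an algebra on spectra. -/
abbrev algSpec (C : Type u) [CommRing C] [Algebra R C] : Spec (CommRingCat.of C) ⟶ Spec R :=
  Spec.map (CommRingCat.ofHom (algebraMap R C))

/-- The map of spectra to the base change. -/
abbrev inclR (A : Type u) [CommRing A] [Algebra R A] :
    Spec (CommRingCat.of (A ⊗[R] B)) ⟶ Spec (CommRingCat.of (B : Type u)) :=
  Spec.map (CommRingCat.ofHom (Algebra.TensorProduct.includeRight (R := R) (A := A) (B := B)).toRingHom)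

/-- The map of spectra to the new base. -/
abbrev inclL (A : Type u) [CommRing A] [Algebra R A] :
    Spec (CommRingCat.of (A ⊗[R] B)) ⟶ Spec (CommRingCat.of A) :=
  Spec.map (CommRingCat.ofHom (algebraMap A (A ⊗[R] B)))

theorem isPullback_incl (A : Type u) [CommRing A] [Algebra R A] :
    IsPullback (inclR B A) (inclL B A) (algSpec (R := R) (B : Type u)) (algSpec (R := R) A) :=
  (isPullback_SpecMap_of_isPushout _ _ _ _ (CommRingCat.isPushout_tensorProduct R A B)).flip

/-- The map from the pulled back object to the pullback of the affine base. -/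
abbrev piMap : pullback (algSpec (B : Type u) ≫ a) f ⟶ pullback a f :=
  pullback.lift (pullback.fst _ _ ≫ algSpec (B : Type u)) (pullback.snd _ _)
    ((Category.assoc _ _ _).trans pullback.condition)

theorem isPullback_piMap :
    IsPullback (piMap f a B) (pullback.fst (algSpec (B : Type u) ≫ a) f) (pullback.fst a f) (algSpec (B : Type u)) := by
  refine IsPullback.of_right (h₁₂ := pullback.snd a f) (h₂₂ := a) (v₁₃ := f) ?_ (pullback.lift_fst _ _ _)
    (IsPullback.of_hasPullback a f).flip
  rw [pullback.lift_snd]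
  exact (IsPullback.of_hasPullback _ f).flip

end Geometry

section Chart

variable (A : Type u) [CommRing A] [Algebra R A] (c : Spec (CommRingCat.of A) ⟶ T)
  (hc : c ≫ f = algSpec (R := R) A ≫ a)

include hc in
theorem chart_cond (B : Alg R) : inclR B A ≫ algSpec (B : Type u) ≫ a = (inclL B A ≫ c) ≫ f := by
  rw [Category.assoc, hc, ← Category.assoc, (isPullback_incl B A).w, Category.assoc]

/-- The chart map into the pulled back object. -/
abbrev chartLeft (B : Alg R) : Spec (CommRingCat.of (A ⊗[R] B)) ⟶ pullback (algSpec (B : Type u) ≫ a) f :=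
  pullback.lift (inclR B A) (inclL B A ≫ c) (chart_cond f a A c hc B)

/-- The chart map, over `T`. -/
def chart (B : Alg R) :
    (specOver (R := CommRingCat.of A) c).obj (op ((Alg.baseChange R A).obj B)) ⟶ pbObj f a B :=
  Over.homMk (U := Over.mk (inclL B A ≫ c)) (V := Over.mk (pullback.snd (algSpec (B : Type u) ≫ a) f))
    (chartLeft f a A c hc B) (pullback.lift_snd _ _ _)

theorem chart_left (B : Alg R) : (chart f a A c hc B).left = chartLeft f a A c hc B := rfl

theorem chart_isPullback (j : Spec (CommRingCat.of A) ⟶ pullback a f) (hj₁ : j ≫ pullback.fst a f = algSpec (R := R) A)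
    (hj₂ : j ≫ pullback.snd a f = c) (B : Alg R) :
    IsPullback (chartLeft f a A c hc B) (inclL B A) (piMap f a B) j := by
  refine IsPullback.of_right (h₁₂ := pullback.fst (algSpec (B : Type u) ≫ a) f) (h₂₂ := pullback.fst a f)
    (v₁₃ := algSpec (B : Type u)) ?_ ?_ (isPullback_piMap f a B).flip
  · rw [pullback.lift_fst, hj₁]
    exact isPullback_incl B A
  · refine pullback.hom_ext ?_ ?_
    · rw [Category.assoc, Category.assoc, pullback.lift_fst, pullback.lift_fst_assoc, hj₁]
      exact (isPullback_incl B A).w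
    · rw [Category.assoc, Category.assoc, pullback.lift_snd, pullback.lift_snd, hj₂]

variable (A' : Type u) [CommRing A'] [Algebra R A'] (c' : Spec (CommRingCat.of A') ⟶ T)
  (hc' : c' ≫ f = algSpec (R := R) A' ≫ a) (φ : A →ₐ[R] A')
  (hφ : Spec.map (CommRingCat.ofHom φ.toRingHom) ≫ c = c')

/-- The map of base changed algebras. -/
abbrev bcLeft (B : Alg R) : Spec (CommRingCat.of (A' ⊗[R] B)) ⟶ Spec (CommRingCat.of (A ⊗[R] B)) :=
  Spec.map (CommRingCat.ofHom (Algebra.TensorProduct.map φ (AlgHom.id R B)).toRingHom)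

theorem bcLeft_inclL (B : Alg R) :
    bcLeft A A' φ B ≫ inclL B A = inclL B A' ≫ Spec.map (CommRingCat.ofHom φ.toRingHom) := by
  rw [← Spec.map_comp, ← Spec.map_comp]
  refine congrArg Spec.map (CommRingCat.hom_ext (RingHom.ext fun x => ?_))
  show Algebra.TensorProduct.map φ (AlgHom.id R B) (x ⊗ₜ[R] (1 : B)) = φ x ⊗ₜ[R] (1 : B)
  exact Algebra.TensorProduct.map_tmul φ _ x 1

theorem bcLeft_inclR (B : Alg R) : bcLeft A A' φ B ≫ inclR B A = inclR B A' := by
  rw [← Spec.map_comp]
  refine congrArg Spec.map (CommRingCat.hom_ext (RingHom.ext fun x => ?_))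
  show Algebra.TensorProduct.map φ (AlgHom.id R B) ((1 : A) ⊗ₜ[R] x) = (1 : A') ⊗ₜ[R] x
  rw [Algebra.TensorProduct.map_tmul, map_one]
  rfl

include hφ in
theorem bc_cond (B : Alg R) : bcLeft A A' φ B ≫ inclL B A ≫ c = inclL B A' ≫ c' := by
  rw [← Category.assoc, bcLeft_inclL, Category.assoc, hφ]

/-- The map between charts. -/
def bcHom (B : Alg R) : (specOver (R := CommRingCat.of A') c').obj (op ((Alg.baseChange R A').obj B)) ⟶
    (specOver (R := CommRingCat.of A) c).obj (op ((Alg.baseChange R A).obj B)) :=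
  Over.homMk (U := Over.mk (inclL B A' ≫ c')) (V := Over.mk (inclL B A ≫ c)) (bcLeft A A' φ B)
    (bc_cond A c A' c' φ hφ B)

theorem bc_chart (B : Alg R) : bcHom A c A' c' φ hφ B ≫ chart f a A c hc B = chart f a A' c' hc' B := by
  refine Over.OverMorphism.ext ?_
  show bcLeft A A' φ B ≫ chartLeft f a A c hc B = chartLeft f a A' c' hc' B
  refine pullback.hom_ext ?_ ?_
  · rw [Category.assoc, pullback.lift_fst, pullback.lift_fst, bcLeft_inclR]
  · rw [Category.assoc, pullback.lift_snd, pullback.lift_snd, bc_cond A c A' c' φ hφ B]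

end Chart

section Functors

variable (A : Type u) [CommRing A] [Algebra R A] (c : Spec (CommRingCat.of A) ⟶ T)
  (hc : c ≫ f = algSpec (R := R) A ≫ a) (M : BigSite.Mod Scheme.fppfPrecoverage T)

theorem appTop_chartLeft (B : Alg R) (b : B) :
    (chartLeft f a A c hc B).appTop ((pullback.fst (algSpec (B : Type u) ≫ a) f).appTop
      ((Scheme.ΓSpecIso (CommRingCat.of (B : Type u))).inv b)) =
      (Scheme.ΓSpecIso (CommRingCat.of (A ⊗[R] B))).inv ((1 : A) ⊗ₜ[R] b) := by
  refine (ConcreteCategory.congr_hom (Scheme.Hom.comp_appTop (chartLeft f a A c hc B) _).symm _).trans ?_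
  refine (ConcreteCategory.congr_hom (congrArg Scheme.Hom.appTop (pullback.lift_fst _ _ _)) _).trans ?_
  exact ConcreteCategory.congr_hom (Scheme.ΓSpecIso_inv_naturality
    (CommRingCat.ofHom (Algebra.TensorProduct.includeRight (R := R) (A := A) (B := B)).toRingHom)).symm b

theorem chart_naturality {B B' : Alg R} (g : B ⟶ B') :
    chart f a A c hc B' ≫ (Over.pullback f).map (soMap a g) =
      soMap (R := CommRingCat.of A) c ((Alg.baseChange R A).map g) ≫ chart f a A c hc B := by
  refine Over.OverMorphism.ext ?_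
  show chartLeft f a A c hc B' ≫ pullback.lift (pullback.fst _ _ ≫ Spec.map (CommRingCat.ofHom g.hom.toRingHom))
      (pullback.snd _ _) _ =
    Spec.map (CommRingCat.ofHom (Algebra.TensorProduct.map (AlgHom.id A A) g.hom).toRingHom) ≫ chartLeft f a A c hc B
  refine pullback.hom_ext ?_ ?_
  · simp only [Category.assoc, pullback.lift_fst, pullback.lift_fst_assoc]
    rw [← Spec.map_comp, ← Spec.map_comp]
    refine congrArg Spec.map (CommRingCat.hom_ext (RingHom.ext fun x => ?_))
    show (1 : A) ⊗ₜ[R] g.hom x = Algebra.TensorProduct.map (AlgHom.id A A) g.hom ((1 : A) ⊗ₜ[R] x)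
    rw [Algebra.TensorProduct.map_tmul]
    rfl
  · simp only [Category.assoc, pullback.lift_snd]
    rw [← Category.assoc, ← Spec.map_comp]
    refine congrArg (· ≫ c) (congrArg Spec.map (CommRingCat.hom_ext (RingHom.ext fun x => ?_)))
    exact ((Algebra.TensorProduct.map (AlgHom.id A A) g.hom).commutes x).symm

/-- The value of a push forward maps to the value on a chart. -/
def etaMap : (toMVF Scheme.fppfPrecoverage a).obj ((BigSite.pushMod Scheme.fppfPrecoverage f).obj M) ⟶
    (push R A).obj ((toMVF (R := CommRingCat.of A) Scheme.fppfPrecoverage c).obj M) :=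
  mkHom
    (fun B =>
      { toFun := fun x => res FP M (chart f a A c hc B) x
        map_add' := fun x y => map_add (res FP M (chart f a A c hc B)) x y
        map_smul' := fun b x => by
          refine (res_smul FP M (chart f a A c hc B) ((BigSite.ORingAbs Scheme.fppfPrecoverage).obj.map
            (pullback.fst (algSpec (B : Type u) ≫ a) f).op
              (toSect Scheme.fppfPrecoverage a B b)) x).trans ?_
          refine congrArg (· • res FP M _ x) (ULift.ext _ _ ?_)
          exact appTop_chartLeft f a A c hc B b })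
    fun B B' g x => by
      show res FP M _ (res FP M _ x) = res FP M _ (res FP M _ x)
      rw [← res_comp, ← res_comp]
      exact congrArg (fun t => res FP M t x) (chart_naturality f a A c hc g)

theorem etaMap_apply (B : Alg R) (x) : ap (etaMap f a A c hc M) B x = res FP M (chart f a A c hc B) x := rfl

variable (A' : Type u) [CommRing A'] [Algebra R A'] (c' : Spec (CommRingCat.of A') ⟶ T)
  (hc' : c' ≫ f = algSpec (R := R) A' ≫ a) (φ : A →ₐ[R] A')
  (hφ : Spec.map (CommRingCat.ofHom φ.toRingHom) ≫ c = c')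

/-- Restriction between the values on charts. -/
def transMap : (push R A).obj ((toMVF (R := CommRingCat.of A) Scheme.fppfPrecoverage c).obj M) ⟶
    (push R A').obj ((toMVF (R := CommRingCat.of A') Scheme.fppfPrecoverage c').obj M) :=
  mkHom
    (fun B =>
      { toFun := fun x => res FP M (bcHom A c A' c' φ hφ B) x
        map_add' := fun x y => map_add (res FP M (bcHom A c A' c' φ hφ B)) x y
        map_smul' := fun b x => by
          refine (res_smul FP M (bcHom A c A' c' φ hφ B)
            (toSect Scheme.fppfPrecoverage (R := CommRingCat.of A) c ((Alg.baseChange R A).obj B) ((1 : A) ⊗ₜ[R] b)) x).trans ?_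
          refine congrArg (· • res FP M _ x) (ULift.ext _ _ ?_)
          show (bcLeft A A' φ B).appTop ((Scheme.ΓSpecIso (CommRingCat.of (A ⊗[R] B))).inv ((1 : A) ⊗ₜ[R] b)) =
            (Scheme.ΓSpecIso (CommRingCat.of (A' ⊗[R] B))).inv ((1 : A') ⊗ₜ[R] b)
          refine (ConcreteCategory.congr_hom (Scheme.ΓSpecIso_inv_naturality
            (CommRingCat.ofHom (Algebra.TensorProduct.map φ (AlgHom.id R B)).toRingHom)).symm _).trans ?_
          refine congrArg (Scheme.ΓSpecIso (CommRingCat.of (A' ⊗[R] B))).inv ?_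
          show Algebra.TensorProduct.map φ (AlgHom.id R B) ((1 : A) ⊗ₜ[R] b) = (1 : A') ⊗ₜ[R] b
          rw [Algebra.TensorProduct.map_tmul, map_one]
          rfl })
    fun B B' g x => by
      show res FP M _ (res FP M _ x) = res FP M _ (res FP M _ x)
      rw [← res_comp, ← res_comp]
      refine congrArg (fun t => res FP M t x) (Over.OverMorphism.ext ?_)
      show bcLeft A A' φ B' ≫ Spec.map (CommRingCat.ofHom (Algebra.TensorProduct.map (AlgHom.id A A) g.hom).toRingHom) =
        Spec.map (CommRingCat.ofHom (Algebra.TensorProduct.map (AlgHom.id A' A') g.hom).toRingHom) ≫ bcLeft A A' φ B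
      rw [← Spec.map_comp, ← Spec.map_comp]
      refine congrArg Spec.map (CommRingCat.hom_ext (RingHom.ext fun z => ?_))
      induction z using TensorProduct.induction_on with
      | zero => simp
      | tmul p q => rfl
      | add p q hp hq => rw [map_add, map_add, hp, hq]

theorem eta_trans : etaMap f a A c hc M ≫ transMap A c M A' c' φ hφ = etaMap f a A' c' hc' M :=
  hom_ext' fun B x => by
    show res FP M (bcHom A c A' c' φ hφ B) (res FP M (chart f a A c hc B) x) = res FP M (chart f a A' c' hc' B) x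
    exact (res_comp FP M _ _ x).symm.trans (congrArg (fun t => res FP M t x) (bc_chart f a A c hc A' c' hc' φ hφ B))

end Functors

section Main

theorem compactSpace_pullback (X : Scheme.{u}) [QuasiSeparatedSpace X] {Y Z : Scheme.{u}} [CompactSpace Y]
    [CompactSpace Z] (j : Y ⟶ X) (k : Z ⟶ X) : CompactSpace ↥(pullback j k) := by
  haveI : QuasiCompact k := quasiCompact_of_compactSpace k
  exact QuasiCompact.compactSpace_of_compactSpace (pullback.fst j k)

/-- The push forward of an adequate module along a quasi-compact quasi-separated morphism. -/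
theorem adequateMod_push [QuasiCompact f] [QuasiSeparated f] (M : BigSite.Mod Scheme.fppfPrecoverage T)
    (hM : adequateMod Scheme.fppfPrecoverage T M) :
    adequateMod Scheme.fppfPrecoverage S ((BigSite.pushMod Scheme.fppfPrecoverage f).obj M) := by
  refine fppf_adequateMod_of_forall _ fun R a => ?_
  classical
  haveI : CompactSpace ↥(pullback a f) := QuasiCompact.compactSpace_of_compactSpace (pullback.fst a f)
  haveI : QuasiSeparatedSpace ↥(pullback a f) := quasiSeparatedSpace_of_quasiSeparated (pullback.fst a f)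
  obtain ⟨ι, _, A, j, hj, hjs⟩ := exists_finite_affine_family (pullback a f)
  letI : ∀ i, Algebra R (A i) := fun i => (Spec.preimage (j i ≫ pullback.fst a f)).hom.toAlgebra
  have hj₁ : ∀ i, j i ≫ pullback.fst a f = algSpec (R := R) (A i) := fun i => (Spec.map_preimage _).symm
  let c : ∀ i, Spec (A i) ⟶ T := fun i => j i ≫ pullback.snd a f
  have hc : ∀ i, c i ≫ f = algSpec (R := R) (A i) ≫ a := fun i => by
    rw [← hj₁ i, Category.assoc, Category.assoc, pullback.condition]
  haveI := fun p : ι × ι => compactSpace_pullback (pullback a f) (j p.1) (j p.2)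
  choose μ hμ D d hd hds using fun p : ι × ι => exists_finite_affine_family (pullback (j p.1) (j p.2))
  letI := hμ
  let ν := Σ p : ι × ι, μ p
  let l : ∀ q : ν, A q.1.1 ⟶ D q.1 q.2 := fun q => Spec.preimage (d q.1 q.2 ≫ pullback.fst _ _)
  let r : ∀ q : ν, A q.1.2 ⟶ D q.1 q.2 := fun q => Spec.preimage (d q.1 q.2 ≫ pullback.snd _ _)
  letI : ∀ q : ν, Algebra R (D q.1 q.2) := fun q => ((l q).hom.comp (algebraMap R (A q.1.1))).toAlgebra
  have hlr : ∀ q : ν, Spec.map (l q) ≫ j q.1.1 = Spec.map (r q) ≫ j q.1.2 := fun q => by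
    rw [Spec.map_preimage, Spec.map_preimage, Category.assoc, Category.assoc, pullback.condition]
  have hrR : ∀ q : ν, (r q).hom.comp (algebraMap R (A q.1.2)) = (l q).hom.comp (algebraMap R (A q.1.1)) := fun q => by
    have h := congrArg (· ≫ pullback.fst a f) (hlr q)
    simp only [Category.assoc, hj₁, ← Spec.map_comp] at h
    exact (congrArg CommRingCat.Hom.hom (Spec.map_injective h)).symm
  let φ : ∀ q : ν, A q.1.1 →ₐ[R] D q.1 q.2 := fun q => { (l q).hom with commutes' := fun _ => rfl }
  let ψ : ∀ q : ν, A q.1.2 →ₐ[R] D q.1 q.2 := fun q =>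
    { (r q).hom with commutes' := fun x => RingHom.congr_fun (hrR q) x }
  let c' : ∀ q : ν, Spec (D q.1 q.2) ⟶ T := fun q => Spec.map (l q) ≫ c q.1.1
  have hψ : ∀ q : ν, Spec.map (r q) ≫ c q.1.2 = c' q := fun q => by
    show Spec.map (r q) ≫ j q.1.2 ≫ _ = Spec.map (l q) ≫ j q.1.1 ≫ _
    rw [← Category.assoc, ← hlr q, Category.assoc]
  have hc' : ∀ q : ν, c' q ≫ f = algSpec (R := R) (D q.1 q.2) ≫ a := fun q => by
    show (Spec.map (l q) ≫ c q.1.1) ≫ f = _
    rw [Category.assoc, hc, ← Category.assoc, ← Spec.map_comp]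
    rfl
  refine adequate_of_equalizer (I := ULift.{u + 1} ι) (J := ULift.{u + 1} ν)
    (fun i => (push R (A i.down)).obj ((toMVF Scheme.fppfPrecoverage (c i.down)).obj M))
    (fun q => (push R (D q.down.1 q.down.2)).obj ((toMVF Scheme.fppfPrecoverage (c' q.down)).obj M))
    (fun i => adequate_push' (fppf_adequate_toMVF hM _)) (fun q => adequate_push' (fppf_adequate_toMVF hM _))
    (fun i => etaMap f a (A i.down) (c i.down) (hc i.down) M) (fun q => ⟨q.down.1.1⟩) (fun q => ⟨q.down.1.2⟩)
    (fun q => transMap _ (c _) M _ (c' q.down) (φ q.down) rfl)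
    (fun q => transMap _ (c _) M _ (c' q.down) (ψ q.down) (hψ q.down))
    (fun q => (eta_trans f a _ (c _) (hc _) M _ (c' q.down) (hc' q.down) (φ q.down) rfl).trans
      (eta_trans f a _ (c _) (hc _) M _ (c' q.down) (hc' q.down) (ψ q.down) (hψ q.down)).symm) ?_ ?_
  all_goals intro B
  all_goals
    have hpb : ∀ i, IsPullback (chartLeft f a (A i) (c i) (hc i) B) (inclL B (A i)) (piMap f a B) (j i) := fun i =>
      chart_isPullback f a (A i) (c i) (hc i) (j i) (hj₁ i) rfl B
    have hP : ∀ i, FP (chart f a (A i) (c i) (hc i) B).left := fun i => by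
      haveI : IsOpenImmersion (chartLeft f a (A i) (c i) (hc i) B) :=
        MorphismProperty.of_isPullback (P := @IsOpenImmersion) (hpb i).flip (hj i)
      exact fp_of_open (chartLeft f a (A i) (c i) (hc i) B)
    have hs : ∀ t : ↥(pbObj f a B).left, ∃ i y, (chart f a (A i) (c i) (hc i) B).left y = t := fun t => by
      obtain ⟨i, y, hy⟩ := hjs (piMap f a B t)
      obtain ⟨z, hz, -⟩ := exists_preimage_of_isPullback (hpb i) t y hy.symm
      exact ⟨i, z, hz⟩
  · intro x hx
    refine eq_of_res_eq FP M _ (fun i => chart f a (A i) (c i) (hc i) B) hP hs x 0 fun i => ?_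
    rw [map_zero]
    exact hx ⟨i⟩
  · intro y hy
    refine (exists_glue FP M _ (fun i => chart f a (A i) (c i) (hc i) B) hP hs (fun i => y ⟨i⟩)
      fun i k W u v huv => ?_).imp fun x hx i => hx i.down
    have huv' : u.left ≫ chartLeft f a (A i) (c i) (hc i) B = v.left ≫ chartLeft f a (A k) (c k) (hc k) B :=
      congrArg Over.Hom.left huv
    have hw : (u.left ≫ inclL B (A i)) ≫ j i = (v.left ≫ inclL B (A k)) ≫ j k :=
      (Category.assoc _ _ _).trans ((congrArg (u.left ≫ ·) (hpb i).w.symm).trans
        (((Category.assoc _ _ _).symm.trans ((congrArg (· ≫ piMap f a B) huv').trans (Category.assoc _ _ _))).trans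
          ((congrArg (v.left ≫ ·) (hpb k).w).trans (Category.assoc _ _ _).symm)))
    have hR : u.left ≫ inclR B (A i) = v.left ≫ inclR B (A k) :=
      (congrArg (u.left ≫ ·) (pullback.lift_fst _ _ _).symm).trans ((Category.assoc _ _ _).symm.trans
        ((congrArg (· ≫ pullback.fst _ _) huv').trans
          ((Category.assoc _ _ _).trans (congrArg (v.left ≫ ·) (pullback.lift_fst _ _ _)))))
    let z : W.left ⟶ pullback (j i) (j k) := pullback.lift _ _ hw
    let V : μ (i, k) → Over T := fun m => Over.mk (pullback.fst z (d (i, k) m) ≫ W.hom)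
    refine eq_of_res_eq FP M V (fun m => Over.homMk (pullback.fst z (d (i, k) m)) rfl) (fun m => ?_) (fun t => ?_)
      _ _ fun m => ?_
    · haveI : IsOpenImmersion (d (i, k) m) := hd (i, k) m
      exact fp_of_open (pullback.fst z (d (i, k) m))
    · obtain ⟨m, y', hy'⟩ := hds (i, k) (z t)
      obtain ⟨w, hw', -⟩ := Scheme.Pullback.exists_preimage_pullback (f := z) (g := d (i, k) m) t y' hy'.symm
      exact ⟨m, w, hw'⟩
    let q : ν := ⟨(i, k), m⟩
    letI : Algebra R (D (i, k) m) := ((l q).hom.comp (algebraMap R (A i))).toAlgebra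
    have hl : pullback.snd z (d (i, k) m) ≫ Spec.map (l q) = pullback.fst z (d (i, k) m) ≫ u.left ≫ inclL B (A i) := by
      show _ ≫ Spec.map (Spec.preimage (d (i, k) m ≫ pullback.fst (j i) (j k))) = _
      rw [Spec.map_preimage, ← Category.assoc, ← pullback.condition, Category.assoc, pullback.lift_fst]
    have hr : pullback.snd z (d (i, k) m) ≫ Spec.map (r q) = pullback.fst z (d (i, k) m) ≫ v.left ≫ inclL B (A k) := by
      show _ ≫ Spec.map (Spec.preimage (d (i, k) m ≫ pullback.snd (j i) (j k))) = _
      rw [Spec.map_preimage, ← Category.assoc, ← pullback.condition, Category.assoc, pullback.lift_snd]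
    have hcond : (pullback.fst z (d (i, k) m) ≫ u.left ≫ inclR B (A i)) ≫ algSpec (R := R) (B : Type u) =
        pullback.snd z (d (i, k) m) ≫ algSpec (R := R) (D (i, k) m) := by
      have hD : algSpec (R := R) (D (i, k) m) = Spec.map (l q) ≫ algSpec (R := R) (A i) := Spec.map_comp _ _
      refine Eq.trans ?_ ((congrArg (· ≫ algSpec (R := R) (A i)) hl).symm.trans
        ((Category.assoc _ _ _).trans (congrArg (pullback.snd z (d (i, k) m) ≫ ·) hD.symm)))
      exact (Category.assoc _ _ _).trans ((congrArg (pullback.fst z (d (i, k) m) ≫ ·)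
        ((Category.assoc _ _ _).trans ((congrArg (u.left ≫ ·) (isPullback_incl B (A i)).w).trans
          (Category.assoc _ _ _).symm))).trans (Category.assoc _ _ _).symm)
    let w := (isPullback_incl B (D (i, k) m)).lift _ _ hcond
    have hu : w ≫ bcLeft (A i) (D (i, k) m) (φ q) B = pullback.fst z (d (i, k) m) ≫ u.left := by
      refine (isPullback_incl B (A i)).hom_ext ?_ ?_
      · exact (Category.assoc _ _ _).trans ((congrArg (w ≫ ·) (bcLeft_inclR (A i) (D (i, k) m) (φ q) B)).trans
          ((IsPullback.lift_fst _ _ _ _).trans (Category.assoc _ _ _).symm))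
      · exact (Category.assoc _ _ _).trans ((congrArg (w ≫ ·) (bcLeft_inclL (A i) (D (i, k) m) (φ q) B)).trans
          ((Category.assoc _ _ _).symm.trans ((congrArg (· ≫ Spec.map (l q)) (IsPullback.lift_snd _ _ _ _)).trans
            (hl.trans (Category.assoc _ _ _).symm))))
    have hv : w ≫ bcLeft (A k) (D (i, k) m) (ψ q) B = pullback.fst z (d (i, k) m) ≫ v.left := by
      refine (isPullback_incl B (A k)).hom_ext ?_ ?_
      · exact (Category.assoc _ _ _).trans ((congrArg (w ≫ ·) (bcLeft_inclR (A k) (D (i, k) m) (ψ q) B)).trans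
          ((IsPullback.lift_fst _ _ _ _).trans ((congrArg (pullback.fst z (d (i, k) m) ≫ ·) hR).trans
            (Category.assoc _ _ _).symm)))
      · exact (Category.assoc _ _ _).trans ((congrArg (w ≫ ·) (bcLeft_inclL (A k) (D (i, k) m) (ψ q) B)).trans
          ((Category.assoc _ _ _).symm.trans ((congrArg (· ≫ Spec.map (r q)) (IsPullback.lift_snd _ _ _ _)).trans
            (hr.trans (Category.assoc _ _ _).symm))))
    let w' : V m ⟶ (specOver (R := CommRingCat.of (D (i, k) m)) (c' q)).obj (op ((Alg.baseChange R (D (i, k) m)).obj B)) :=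
      Over.homMk (U := V m) (V := Over.mk (inclL B (D (i, k) m) ≫ c' q)) w (by
        show w ≫ inclL B (D (i, k) m) ≫ c' q = pullback.fst z (d (i, k) m) ≫ W.hom
        rw [IsPullback.lift_snd_assoc, ← Over.w u]
        show pullback.snd z (d (i, k) m) ≫ Spec.map (l q) ≫ c i = pullback.fst z (d (i, k) m) ≫ u.left ≫ inclL B (A i) ≫ c i
        rw [reassoc_of% hl])
    have eu : w' ≫ bcHom (A i) (c i) (D (i, k) m) (c' q) (φ q) rfl B = Over.homMk (pullback.fst z (d (i, k) m)) rfl ≫ u :=
      Over.OverMorphism.ext hu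
    have ev : w' ≫ bcHom (A k) (c k) (D (i, k) m) (c' q) (ψ q) (hψ q) B = Over.homMk (pullback.fst z (d (i, k) m)) rfl ≫ v :=
      Over.OverMorphism.ext hv
    rw [← res_comp, ← res_comp, ← eu, ← ev, res_comp, res_comp]
    exact congrArg (res FP M w') (hy ⟨q⟩)

end Main

end

end Groth.L23.Adq
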