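import Groth.Agent.L23.AdeqSite.Fppf
import Groth.Agent.L23.AdeqSite.Push
import Groth.Agent.L23.Adeq.CechExact
import Mathlib.CategoryTheory.Sites.SheafCohomology.Cech
import Mathlib.CategoryTheory.Limits.Constructions.Over.Basic

/-!
# The Čech complex of an affine covering map with coefficients in an adequate module
-/

universe u

open CategoryTheory Limits Opposite AlgebraicGeometry TensorProduct Simplicial

set_option backward.isDefEq.respectTransparency.types false
set_option linter.style.haveILetI false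

namespace Groth.L23.Adq

open _root_.Adeq

noncomputable section

variable (R : CommRingCat.{u}) (B : Type u) [CommRing B] [Algebra R B]

/-- The covering object. -/
abbrev cU : Over (Spec R) := Over.mk (Spec.map (CommRingCat.ofHom (algebraMap R B)))

/-- The powers of the covering object. -/
def cPow : SimplicialObject (Over (Spec R)) where
  obj n := ∏ᶜ fun _ : ToType n.unop => cU R B
  map {n m} f := Pi.lift fun a => Pi.π (fun _ : ToType n.unop => cU R B) (f.unop.toOrderHom a)
  map_id n := Pi.hom_ext _ _ fun a => by simp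
  map_comp f g := Pi.hom_ext _ _ fun a => by
    rw [Pi.lift_π, Category.assoc, Pi.lift_π]
    erw [Pi.lift_π]
    rfl

/-- The projections of a power. -/
abbrev cπ (n : ℕ) (a : Fin (n + 1)) : (cPow R B) _⦋n⦌ ⟶ cU R B :=
  Pi.π (fun _ : Fin (n + 1) => cU R B) a

theorem cπ_δ (n : ℕ) (i : Fin (n + 2)) (a : Fin (n + 1)) :
    (cPow R B).δ i ≫ cπ R B n a = cπ R B (n + 1) (i.succAbove a) :=
  Pi.lift_π _ _

theorem cPow_hom_ext {W : Over (Spec R)} (n : ℕ) (p q : W ⟶ (cPow R B) _⦋n⦌)
    (h : ∀ a, p ≫ cπ R B n a = q ≫ cπ R B n a) : p = q :=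
  Pi.hom_ext _ _ h

/-- A map into a power. -/
def cLift {W : Over (Spec R)} (n : ℕ) (fam : Fin (n + 1) → (W ⟶ cU R B)) : W ⟶ (cPow R B) _⦋n⦌ :=
  Pi.lift (f := fun _ : Fin (n + 1) => cU R B) fam

theorem cLift_π {W : Over (Spec R)} (n : ℕ) (fam : Fin (n + 1) → (W ⟶ cU R B)) (a : Fin (n + 1)) :
    cLift R B n fam ≫ cπ R B n a = fam a :=
  Pi.lift_π _ _

/-- The recursive description of the powers. -/
theorem isPullback_cPow (n : ℕ) :
    IsPullback ((cPow R B).δ (n := n) 0).left (cπ R B (n + 1) 0).left ((cPow R B) _⦋n⦌).hom (cU R B).hom := by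
  refine IsPullback.of_isLimit' ⟨(Over.w _).trans (Over.w _).symm⟩ ?_
  let σ : ∀ s : PullbackCone ((cPow R B) _⦋n⦌).hom (cU R B).hom,
      Over.mk (s.snd ≫ (cU R B).hom) ⟶ (cPow R B) _⦋n⦌ := fun s => Over.homMk s.fst s.condition
  let L : ∀ s : PullbackCone ((cPow R B) _⦋n⦌).hom (cU R B).hom,
      Over.mk (s.snd ≫ (cU R B).hom) ⟶ (cPow R B) _⦋n + 1⦌ := fun s =>
    cLift R B (n + 1) (Fin.cases (Over.homMk s.snd rfl) fun a => σ s ≫ cπ R B n a)
  refine PullbackCone.IsLimit.mk _ (fun s => (L s).left) ?_ ?_ ?_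
  · intro s
    have h : L s ≫ (cPow R B).δ 0 = σ s := cPow_hom_ext R B n _ _ fun a => by
      rw [Category.assoc, cπ_δ, Fin.succAbove_zero, cLift_π, Fin.cases_succ]
    exact congrArg (fun k => Over.Hom.left k) h
  · intro s
    have h : L s ≫ cπ R B (n + 1) 0 = Over.homMk s.snd rfl := by rw [cLift_π, Fin.cases_zero]
    exact congrArg (fun k => Over.Hom.left k) h
  · intro s m hm₁ hm₂
    let m' : Over.mk (s.snd ≫ (cU R B).hom) ⟶ (cPow R B) _⦋n + 1⦌ := Over.homMk m (by
      rw [← Over.w (cπ R B (n + 1) 0), ← hm₂, Category.assoc]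
      rfl)
    refine congrArg (fun k => Over.Hom.left k) (cPow_hom_ext R B (n + 1) m' _ fun a => ?_)
    rw [cLift_π]
    induction a using Fin.cases with
    | zero =>
      rw [Fin.cases_zero]
      exact Over.OverMorphism.ext hm₂
    | succ a =>
      rw [Fin.cases_succ, ← Fin.succAbove_zero, ← cπ_δ, ← Category.assoc]
      exact congrArg (· ≫ cπ R B n a) (Over.OverMorphism.ext hm₁)

instance isAffine_cPow (n : ℕ) : IsAffine ((cPow R B) _⦋n⦌).left := by
  induction n with
  | zero =>
    haveI : IsIso (cπ R B 0 0) := ⟨cLift R B 0 fun _ => 𝟙 _, cPow_hom_ext R B 0 _ _ fun a => by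
      rw [Category.assoc, Category.id_comp, cLift_π, Category.comp_id, Fin.eq_zero a], cLift_π R B 0 _ _⟩
    haveI : IsIso (cπ R B 0 0).left := inferInstanceAs (IsIso ((Over.forget _).map (cπ R B 0 0)))
    haveI : IsAffine (cU R B).left := inferInstanceAs (IsAffine (Spec (CommRingCat.of B)))
    exact IsAffine.of_isIso (cπ R B 0 0).left
  | succ n ih =>
    haveI : IsAffine (cU R B).left := inferInstanceAs (IsAffine (Spec (CommRingCat.of B)))
    haveI : IsAffine (pullback ((cPow R B) _⦋n⦌).hom (cU R B).hom) := by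
      haveI : IsAffineHom (cU R B).hom := isAffineHom_of_isAffine _
      exact isAffine_of_isAffineHom (pullback.fst _ _)
    exact IsAffine.of_isIso (isPullback_cPow R B n).isoPullback.hom

instance isAffine_cPow_obj (n : SimplexCategoryᵒᵖ) : IsAffine ((cPow R B).obj n).left :=
  isAffine_cPow R B n.unop.len

variable {R} in
/-- The algebra of functions of an affine scheme over `R`. -/
def algΓ (Z : Over (Spec R)) [IsAffine Z.left] : Alg R :=
  @algOf R _ Γ(Z.left, ⊤) _ (Spec.preimage (Z.left.isoSpec.inv ≫ Z.hom)).hom.toAlgebra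

variable {R} in
theorem algΓ_spec (Z : Over (Spec R)) [IsAffine Z.left] :
    Spec.map (CommRingCat.ofHom (algebraMap R (algΓ Z))) = Z.left.isoSpec.inv ≫ Z.hom :=
  Spec.map_preimage _

variable {R} in
/-- The map of algebras of functions. -/
def algΓMap {Z Y : Over (Spec R)} [IsAffine Z.left] [IsAffine Y.left] (h : Z ⟶ Y) : algΓ Y ⟶ algΓ Z :=
  CommAlgCat.ofHom (X := (algΓ Y : Type u)) (Y := (algΓ Z : Type u))
    { (h.left.appTop.hom : (algΓ Y : Type u) →+* (algΓ Z : Type u)) with
      commutes' := fun r => by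
        have key : (CommRingCat.ofHom (algebraMap R (algΓ Y)) ≫ h.left.appTop : R ⟶ CommRingCat.of (algΓ Z : Type u)) =
            CommRingCat.ofHom (algebraMap R (algΓ Z)) := by
          refine Spec.map_injective ((Spec.map_comp _ _).trans ?_)
          refine (congrArg (Spec.map h.left.appTop ≫ ·) (algΓ_spec Y)).trans (Eq.trans ?_ (algΓ_spec Z).symm)
          refine (Category.assoc _ _ _).symm.trans ?_
          refine (congrArg (· ≫ Y.hom) (Scheme.isoSpec_inv_naturality h.left)).trans ?_
          exact (Category.assoc _ _ _).trans (congrArg (Z.left.isoSpec.inv ≫ ·) (Over.w h))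
        exact ConcreteCategory.congr_hom key r }

variable {R} in
theorem algΓMap_apply {Z Y : Over (Spec R)} [IsAffine Z.left] [IsAffine Y.left] (h : Z ⟶ Y)
    (x : Γ(Y.left, ⊤)) : (algΓMap h).hom x = h.left.appTop x := rfl

variable {R} in
theorem algΓMap_id (Z : Over (Spec R)) [IsAffine Z.left] : algΓMap (𝟙 Z) = 𝟙 (algΓ Z) :=
  CommAlgCat.hom_ext (AlgHom.ext fun x => (algΓMap_apply (𝟙 Z) x).trans
    (appTop_eq_id (𝟙 Z : Z ⟶ Z).left rfl x))

variable {R} in
theorem algΓMap_comp {Z Y X : Over (Spec R)} [IsAffine Z.left] [IsAffine Y.left] [IsAffine X.left]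
    (h : Z ⟶ Y) (k : Y ⟶ X) : algΓMap (h ≫ k) = algΓMap k ≫ algΓMap h :=
  CommAlgCat.hom_ext (AlgHom.ext fun x => ConcreteCategory.congr_hom (Scheme.Hom.comp_appTop h.left k.left) x)

/-- The cosimplicial algebra of the powers. -/
def cAlg : CosimplicialObject (Alg R) where
  obj n := algΓ ((cPow R B).obj (op n))
  map f := algΓMap ((cPow R B).map f.op)
  map_id n := by rw [op_id, CategoryTheory.Functor.map_id, algΓMap_id]
  map_comp f g := by rw [op_comp, CategoryTheory.Functor.map_comp, algΓMap_comp]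

variable {R} in
/-- An affine scheme as the spectrum of its algebra of functions. -/
def specΓ (Z : Over (Spec R)) [IsAffine Z.left] : Spec (CommRingCat.of (algΓ Z : Type u)) ≅ Z.left :=
  Z.left.isoSpec.symm

variable {R} in
theorem specΓ_hom (Z : Over (Spec R)) [IsAffine Z.left] :
    Spec.map (CommRingCat.ofHom (algebraMap R (algΓ Z))) = (specΓ Z).hom ≫ Z.hom :=
  algΓ_spec Z

variable {R} in
theorem algΓMap_spec {Z Y : Over (Spec R)} [IsAffine Z.left] [IsAffine Y.left] (h : Z ⟶ Y) :
    Spec.map (CommRingCat.ofHom (algΓMap h).hom.toRingHom) ≫ (specΓ Y).hom = (specΓ Z).hom ≫ h.left :=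
  Scheme.isoSpec_inv_naturality h.left

theorem cVertex_comm {n : ℕ} :
    CommRingCat.ofHom (algebraMap R B) ≫
        Spec.preimage ((specΓ ((cPow R B) _⦋n⦌)).hom ≫ (cπ R B n 0).left) =
      CommRingCat.ofHom (algebraMap R (algΓ ((cPow R B) _⦋n⦌))) := by
  apply Spec.map_injective
  rw [Spec.map_comp, Spec.map_preimage, specΓ_hom, Category.assoc]
  exact congrArg (_ ≫ ·) (Over.w (cπ R B n 0))

/-- The vertex map. -/
def cVertex (n : ℕ) : algOf R B ⟶ (cAlg R B) ^⦋n⦌ :=
  CommAlgCat.ofHom (X := B) (Y := (algΓ ((cPow R B) _⦋n⦌) : Type u))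
    { (Spec.preimage ((specΓ ((cPow R B) _⦋n⦌)).hom ≫ (cπ R B n 0).left)).hom with
      commutes' := fun r => ConcreteCategory.congr_hom (cVertex_comm R B) r }

theorem cVertex_spec (n : ℕ) :
    Spec.map (CommRingCat.ofHom (cVertex R B n).hom.toRingHom) =
      (specΓ ((cPow R B) _⦋n⦌)).hom ≫ (cπ R B n 0).left :=
  Spec.map_preimage _

theorem cAlg_δ_spec (n : ℕ) (i : Fin (n + 2)) :
    Spec.map (CommRingCat.ofHom ((cAlg R B).δ i).hom.toRingHom) ≫ (specΓ ((cPow R B) _⦋n⦌)).hom =
      (specΓ ((cPow R B) _⦋n + 1⦌)).hom ≫ ((cPow R B).δ i).left :=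
  algΓMap_spec ((cPow R B).δ i)

theorem cVertex_δ (n : ℕ) (i : Fin (n + 1)) :
    cVertex R B n ≫ (cAlg R B).δ i.succ = cVertex R B (n + 1) := by
  have key : CommRingCat.ofHom (cVertex R B n).hom.toRingHom ≫ CommRingCat.ofHom ((cAlg R B).δ i.succ).hom.toRingHom =
      CommRingCat.ofHom (cVertex R B (n + 1)).hom.toRingHom := by
    refine Spec.map_injective ((Spec.map_comp _ _).trans ?_)
    refine (congrArg (Spec.map _ ≫ ·) (cVertex_spec R B n)).trans (Eq.trans ?_ (cVertex_spec R B (n + 1)).symm)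
    refine ((Category.assoc _ _ _).symm.trans (congrArg (· ≫ (cπ R B n 0).left) (cAlg_δ_spec R B n i.succ))).trans ?_
    refine (Category.assoc _ _ _).trans (congrArg (_ ≫ ·) ?_)
    exact congrArg (fun k => Over.Hom.left k) ((cπ_δ R B n i.succ 0).trans
      (congrArg (cπ R B (n + 1)) (Fin.succ_succAbove_zero i)))
  exact CommAlgCat.hom_ext (AlgHom.ext fun b => ConcreteCategory.congr_hom key b)

theorem cAlg_isPullback (n : ℕ) :
    IsPullback (Spec.map (CommRingCat.ofHom ((cAlg R B).δ (n := n) 0).hom.toRingHom))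
      (Spec.map (CommRingCat.ofHom (cVertex R B (n + 1)).hom.toRingHom))
      (algSpec (R := R) ((cAlg R B) ^⦋n⦌ : Alg R)) (algSpec (R := R) B) := by
  refine (isPullback_cPow R B n).of_iso (specΓ ((cPow R B) _⦋n + 1⦌)).symm
    (specΓ ((cPow R B) _⦋n⦌)).symm (Iso.refl _) (Iso.refl _) ?_ ?_ ?_ ?_
  · refine (cancel_mono (specΓ ((cPow R B) _⦋n⦌)).hom).1 ?_
    refine ((Category.assoc _ _ _).trans ((congrArg (_ ≫ ·) (Iso.inv_hom_id _)).trans (Category.comp_id _))).trans ?_
    refine Eq.trans ?_ (Category.assoc _ _ _).symm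
    refine Eq.trans ?_ (congrArg (_ ≫ ·) (cAlg_δ_spec R B n 0).symm)
    exact (Iso.inv_hom_id_assoc _ _).symm
  · refine (Category.comp_id _).trans (Eq.trans ?_ (congrArg (_ ≫ ·) (cVertex_spec R B (n + 1))).symm)
    exact (Iso.inv_hom_id_assoc _ _).symm
  · exact (Category.comp_id _).trans ((congrArg (_ ≫ ·) (specΓ_hom _)).trans (Iso.inv_hom_id_assoc _ _)).symm
  · exact (Category.comp_id _).trans (Category.id_comp _).symm

theorem cAlg_bijective (n : ℕ) :
    Function.Bijective (Algebra.TensorProduct.lift (cVertex R B (n + 1)).hom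
      ((cAlg R B).δ (n := n) 0).hom fun _ _ => Commute.all _ _) := by
  let A : Alg R := (cAlg R B) ^⦋n⦌
  let q := Algebra.TensorProduct.lift (cVertex R B (n + 1)).hom
    ((cAlg R B).δ (n := n) 0).hom fun _ _ => Commute.all _ _
  let e := (cAlg_isPullback R B n).isoIsPullback _ _ (isPullback_incl (R := R) A B)
  have he : e.hom = Spec.map (CommRingCat.ofHom q.toRingHom) := by
    refine (isPullback_incl (R := R) A B).hom_ext ?_ ?_
    · refine ((cAlg_isPullback R B n).isoIsPullback_hom_fst _ _ (isPullback_incl (R := R) A B)).trans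
        (Eq.trans ?_ (Spec.map_comp _ _))
      exact congrArg Spec.map (CommRingCat.hom_ext
        (congrArg AlgHom.toRingHom (Algebra.TensorProduct.lift_comp_includeRight (cVertex R B (n + 1)).hom
          ((cAlg R B).δ (n := n) 0).hom fun _ _ => Commute.all _ _)).symm)
    · refine ((cAlg_isPullback R B n).isoIsPullback_hom_snd _ _ (isPullback_incl (R := R) A B)).trans
        (Eq.trans ?_ (Spec.map_comp _ _))
      exact congrArg Spec.map (CommRingCat.hom_ext
        (congrArg AlgHom.toRingHom (Algebra.TensorProduct.lift_comp_includeLeft (cVertex R B (n + 1)).hom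
          ((cAlg R B).δ (n := n) 0).hom fun _ _ => Commute.all _ _)).symm)
  obtain ⟨g, hg⟩ := Spec.map_surjective e.inv
  have h₁ : CommRingCat.ofHom q.toRingHom ≫ g = 𝟙 _ := Spec.map_injective (by
    rw [Spec.map_comp, hg, ← he, Iso.inv_hom_id, Spec.map_id])
  have h₂ : g ≫ CommRingCat.ofHom q.toRingHom = 𝟙 _ := Spec.map_injective (by
    rw [Spec.map_comp, hg, ← he, Iso.hom_inv_id, Spec.map_id])
  exact Function.bijective_iff_has_inverse.2
    ⟨g, fun x => ConcreteCategory.congr_hom h₁ x, fun x => ConcreteCategory.congr_hom h₂ x⟩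

section Iso

variable {S : Scheme.{u}} (a : Spec R ⟶ S) (M : BigSite.Mod Scheme.fppfPrecoverage S)

theorem toSpecOver_comp (Z : Over (Spec R)) [IsAffine Z.left] :
    (specΓ Z).inv ≫ Spec.map (CommRingCat.ofHom (algebraMap R (algΓ Z))) ≫ a = Z.hom ≫ a := by
  rw [specΓ_hom, Category.assoc, Iso.inv_hom_id_assoc]

/-- An affine object of the big site as a spectrum. -/
def affObjIso (Z : Over (Spec R)) [IsAffine Z.left] :
    (Over.map a).obj Z ≅ (specOver a).obj (op (algΓ Z)) :=
  Over.isoMk (f := (Over.map a).obj Z) (g := Over.mk (Spec.map (CommRingCat.ofHom (algebraMap R (algΓ Z))) ≫ a))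
    (specΓ Z).symm (toSpecOver_comp R a Z)

/-- The sections of a module over the powers. -/
abbrev cSect : CosimplicialObject AddCommGrpCat.{u + 1} :=
  ((CosimplicialObject.whiskering _ _).obj (valAb ((toMVF Scheme.fppfPrecoverage a).obj M))).obj (cAlg R B)

/-- The presheaf on schemes over the affine base. -/
abbrev cG : (Over (Spec R))ᵒᵖ ⥤ AddCommGrpCat.{u + 1} :=
  (Over.map a).op ⋙ ((BigSite.toAbMod Scheme.fppfPrecoverage S).obj M).obj

/-- Comparison with the Čech object. -/
def cSingleIso (n : SimplexCategory) :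
    ((FormalCoproduct.cosimplicialObjectFunctor (FormalCoproduct.mk _ fun _ : PUnit.{u + 2} => cU R B).cech).obj
      (cG R a M)).obj n ≅ (cG R a M).obj (op ((cPow R B).obj (op n))) where
  hom := Pi.π (fun i : ToType n → PUnit.{u + 2} =>
    (cG R a M).obj (op (∏ᶜ ((fun _ : PUnit.{u + 2} => cU R B) ∘ i)))) fun _ => PUnit.unit
  inv := Pi.lift (f := fun i : ToType n → PUnit.{u + 2} =>
    (cG R a M).obj (op (∏ᶜ ((fun _ : PUnit.{u + 2} => cU R B) ∘ i)))) fun _ => 𝟙 _
  hom_inv_id := Pi.hom_ext _ _ fun i => by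
    obtain rfl : i = fun _ => PUnit.unit := funext fun _ => rfl
    exact (Category.assoc _ _ _).trans ((congrArg (_ ≫ ·) (Pi.lift_π _ _)).trans
      ((Category.comp_id _).trans (Category.id_comp _).symm))
  inv_hom_id := Pi.lift_π _ _

/-- The comparison with values on algebras. -/
def cValIso (Z : Over (Spec R)) [IsAffine Z.left] :
    (cG R a M).obj (op Z) ≅ (valAb ((toMVF Scheme.fppfPrecoverage a).obj M)).obj (algΓ Z) where
  hom := AddCommGrpCat.ofHom (res FP M (affObjIso R a Z).inv)
  inv := AddCommGrpCat.ofHom (res FP M (affObjIso R a Z).hom)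
  hom_inv_id := AddCommGrpCat.hom_ext (AddMonoidHom.ext fun x => by
    show res FP M _ (res FP M _ x) = x
    rw [← res_comp, Iso.hom_inv_id, res_id])
  inv_hom_id := AddCommGrpCat.hom_ext (AddMonoidHom.ext fun x => by
    show res FP M _ (res FP M _ x) = x
    rw [← res_comp, Iso.inv_hom_id, res_id])

/-- The Čech complex as a complex of values on algebras. -/
def cechIso :
    (FormalCoproduct.cosimplicialObjectFunctor (FormalCoproduct.mk _ fun _ : PUnit.{u + 2} => cU R B).cech).obj
      (cG R a M) ≅ cSect R B a M :=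
  NatIso.ofComponents (fun n => cSingleIso R B a M n ≪≫ cValIso R a M ((cPow R B).obj (op n))) fun {n m} f => by
    have h₁ : ((FormalCoproduct.cosimplicialObjectFunctor
        (FormalCoproduct.mk _ fun _ : PUnit.{u + 2} => cU R B).cech).obj (cG R a M)).map f ≫
        (cSingleIso R B a M m).hom = (cSingleIso R B a M n).hom ≫ (cG R a M).map ((cPow R B).map f.op).op :=
      Pi.lift_π _ _
    have h₂ : (cG R a M).map ((cPow R B).map f.op).op ≫ (cValIso R a M ((cPow R B).obj (op m))).hom =
        (cValIso R a M ((cPow R B).obj (op n))).hom ≫ (cSect R B a M).map f := by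
      refine AddCommGrpCat.hom_ext (AddMonoidHom.ext fun x => ?_)
      show res FP M (affObjIso R a _).inv (res FP M ((Over.map a).map ((cPow R B).map f.op)) x) =
        res FP M (soMap a (algΓMap ((cPow R B).map f.op))) (res FP M (affObjIso R a _).inv x)
      rw [← res_comp, ← res_comp]
      exact congrArg (fun t => res FP M t x) (Over.OverMorphism.ext
        (algΓMap_spec ((cPow R B).map f.op)).symm)
    exact (Category.assoc _ _ _).symm.trans ((congrArg (· ≫ _) h₁).trans ((Category.assoc _ _ _).trans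
      ((congrArg (_ ≫ ·) h₂).trans (Category.assoc _ _ _).symm)))

theorem cech_exactAt (hM : adequateMod Scheme.fppfPrecoverage S M) [Module.FaithfullyFlat R B] (n : ℕ) (hn : 0 < n) :
    ((cechComplexFunctor (A := AddCommGrpCat.{u + 1}) (fun _ : PUnit.{u + 2} => cU R B)).obj
      (cG R a M)).ExactAt n :=
  HomologicalComplex.ExactAt.of_iso
    (exactAt_valAb (cAlg R B) B (nonempty_emb (fppf_adequate_toMVF hM a)).some (cVertex R B)
      (cVertex_δ R B) (cAlg_bijective R B) n hn)
    ((AlgebraicTopology.alternatingCofaceMapComplex AddCommGrpCat.{u + 1}).mapIso (cechIso R B a M)).symm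

end Iso

end

end Groth.L23.Adq
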