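import Groth.Agent.L23.AdeqSite.Sheafify
import Groth.Agent.L23.Adeq.Cover

/-!
# Cokernels and colimits of adequate modules on the big fppf site
-/

universe u w w'

open CategoryTheory Limits Opposite AlgebraicGeometry

set_option backward.isDefEq.respectTransparency.types false
set_option linter.style.haveILetI false

namespace Groth.L23.Adq

open _root_.Adeq

noncomputable section

variable {S : Scheme.{u}}

local notation "Kf" => Scheme.fppfPrecoverage

/-- The sheafification functor. -/
abbrev shF : PresheafOfModules.{u + 1} (BigSite.ORing Kf S).obj ⥤ BigSite.Mod Kf S :=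
  PresheafOfModules.sheafification (𝟙 (BigSite.ORing Kf S).obj)

/-- The underlying presheaf of modules. -/
abbrev preF : BigSite.Mod Kf S ⥤ PresheafOfModules.{u + 1} (BigSite.ORing Kf S).obj :=
  SheafOfModules.forget _ ⋙ PresheafOfModules.restrictScalars (𝟙 (BigSite.ORing Kf S).obj)

/-- Sheafifying a sheaf does nothing. -/
def counitIso : preF (S := S) ⋙ shF ≅ 𝟭 _ :=
  asIso (PresheafOfModules.sheafificationAdjunction (𝟙 (BigSite.ORing Kf S).obj)).counit

theorem adequate_preF {M : BigSite.Mod Kf S} (hM : adequateMod Kf S M) {R : CommRingCat.{u}} (a : Spec R ⟶ S) :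
    adequate R ((toMVFPre Kf a).obj ((preF).obj M)) :=
  fppf_adequate_toMVF hM a

variable {R : CommRingCat.{u}} (a : Spec R ⟶ S)

/-- The abelian presheaf of the values of a module. -/
def toMVFPreCompToPresheaf :
    toMVFPre Kf a ⋙ PresheafOfModules.toPresheaf _ ≅
      PresheafOfModules.toPresheaf _ ⋙ (Functor.whiskeringLeft _ _ Ab.{u + 1}).obj (specOver a).op :=
  Iso.refl _

instance toMVFPre_preservesColimitsOfShape (J : Type w) [Category.{w'} J]
    [HasColimitsOfShape J AddCommGrpCat.{u + 1}] :
    PreservesColimitsOfShape J (toMVFPre Kf a) := by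
  haveI : PreservesColimitsOfShape J (toMVFPre Kf a ⋙ PresheafOfModules.toPresheaf _) :=
    preservesColimitsOfShape_of_natIso (toMVFPreCompToPresheaf a).symm
  haveI : ReflectsColimitsOfShape J (PresheafOfModules.toPresheaf.{u + 1} (ringOf R)) :=
    reflectsColimitsOfShape_of_reflectsIsomorphisms
  exact preservesColimitsOfShape_of_reflects_of_preserves (toMVFPre Kf a)
    (PresheafOfModules.toPresheaf (ringOf R))

/-- A colimit of adequate modules is adequate. -/
theorem adequateMod_colimit {J : Type (u + 1)} [SmallCategory J] (D : J ⥤ BigSite.Mod Kf S)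
    (hD : ∀ j, adequateMod Kf S (D.obj j)) : adequateMod Kf S (colimit D) := by
  haveI : (shF (S := S)).IsLeftAdjoint :=
    (PresheafOfModules.sheafificationAdjunction (𝟙 (BigSite.ORing Kf S).obj)).isLeftAdjoint
  haveI : PreservesColimitsOfShape J (shF (S := S)) := inferInstance
  refine (adequateMod Kf S).prop_of_iso ?_ (adequateMod_shf (colimit (D ⋙ preF)) fun R a => ?_)
  · exact preservesColimitIso shF (D ⋙ preF) ≪≫
      HasColimit.isoOfNatIso (Functor.associator _ _ _ ≪≫ Functor.isoWhiskerLeft D counitIso ≪≫ D.rightUnitor)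
  · exact (adequate R).prop_of_iso (preservesColimitIso (toMVFPre Kf a) (D ⋙ preF)).symm
      (adequate_colimit' _ fun j => adequate_preF (hD j) a)

/-- A cokernel of adequate modules is adequate. -/
theorem adequateMod_cokernel {M N : BigSite.Mod Kf S} (φ : M ⟶ N) (hM : adequateMod Kf S M)
    (hN : adequateMod Kf S N) : adequateMod Kf S (cokernel φ) := by
  haveI : (shF (S := S)).IsLeftAdjoint :=
    (PresheafOfModules.sheafificationAdjunction (𝟙 (BigSite.ORing Kf S).obj)).isLeftAdjoint
  refine (adequateMod Kf S).prop_of_iso ?_ (adequateMod_shf (cokernel ((preF).map φ)) fun R a => ?_)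
  · exact PreservesCokernel.iso shF ((preF).map φ) ≪≫
      cokernel.mapIso _ φ (counitIso.app M) (counitIso.app N) (counitIso.hom.naturality φ)
  · haveI : PreservesColimit (parallelPair ((preF).map φ) 0) (toMVFPre Kf a) := by
      haveI := toMVFPre_preservesColimitsOfShape a WalkingParallelPair
      infer_instance
    exact (adequate R).prop_of_iso (PreservesCokernel.iso (toMVFPre Kf a) ((preF).map φ)).symm
      (adequate_cokernel _ (adequate_preF hM a) (adequate_preF hN a))

end

end Groth.L23.Adq
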