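import Groth.Prelude.Def_Adeq2
import Mathlib.Algebra.Category.ModuleCat.Sheaf.Limits
import Mathlib.Algebra.Category.ModuleCat.Presheaf.Sheafification
import Mathlib.CategoryTheory.Sites.LocallyInjective
import Mathlib.Algebra.Homology.ShortComplex.ModuleCat

/-!
# Exact sequences of sheaves of modules, on sections
-/

universe u v w

open CategoryTheory Limits Opposite

set_option backward.isDefEq.respectTransparency.types false
set_option linter.style.haveILetI false

namespace Groth.L23.Adq

noncomputable section

variable {C : Type w} [Category.{v} C] {J : GrothendieckTopology C} {R : Sheaf J RingCat.{u}}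
  [J.WEqualsLocallyBijective AddCommGrpCat.{u}] [HasSheafify J AddCommGrpCat.{u}]

/-- Sections of a kernel. -/
theorem exists_kernel_section {M N : SheafOfModules.{u} R} (g : M ⟶ N) (X : Cᵒᵖ) (x : M.val.obj X)
    (hx : g.val.app X x = 0) : ∃ y, (kernel.ι g).val.app X y = x := by
  have hS := (ShortComplex.exact_of_f_is_kernel (ShortComplex.mk (kernel.ι g) g (kernel.condition g))
    (kernelIsKernel g))
  have h := (ShortComplex.exact_of_f_is_kernel
    ((ShortComplex.mk (kernel.ι g) g (kernel.condition g)).map (SheafOfModules.evaluation R X))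
    (KernelFork.mapIsLimit _ (kernelIsKernel g) (SheafOfModules.evaluation R X)))
  rw [ShortComplex.moduleCat_exact_iff] at h
  exact h x hx

theorem injective_mono_section {M N : SheafOfModules.{u} R} (g : M ⟶ N) [Mono g] (X : Cᵒᵖ) :
    Function.Injective (g.val.app X) :=
  (ModuleCat.mono_iff_injective _).1 ((SheafOfModules.evaluation R X).map_mono g)

/-- Sections killed by the second map of an exact sequence lift locally. -/
theorem exists_local_lift (S : ShortComplex (SheafOfModules.{u} R)) (hS : S.Exact) (X : C)
    (x : S.X₂.val.obj (op X)) (hx : S.g.val.app (op X) x = 0) :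
    ∃ T ∈ J X, ∀ ⦃Y : C⦄ (f : Y ⟶ X), T f →
      ∃ z : S.X₁.val.obj (op Y), S.f.val.app (op Y) z = S.X₂.val.presheaf.map f.op x := by
  let Q : PresheafOfModules.{u} R.obj := cokernel S.f.val
  let q : S.X₂.val ⟶ Q := cokernel.π S.f.val
  let η := (PresheafOfModules.sheafificationAdjunction (𝟙 R.obj)).unit.app Q
  let π' : S.X₂ ⟶ (PresheafOfModules.sheafification (𝟙 R.obj)).obj Q := ⟨q ≫ η⟩
  have hf : S.f ≫ π' = 0 := by
    refine SheafOfModules.hom_ext ?_
    show S.f.val ≫ q ≫ η = 0
    rw [← Category.assoc, cokernel.condition, zero_comp]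
  have hk : kernel.ι S.g ≫ π' = 0 := hS.comp_eq_zero (kernel.condition S.g) hf
  obtain ⟨y, rfl⟩ := exists_kernel_section S.g (op X) x hx
  have hzero : η.app (op X) (q.app (op X) ((kernel.ι S.g).val.app (op X) y)) = 0 :=
    congrArg (fun (k : kernel S.g ⟶ _) => k.val.app (op X) y) hk
  have hloc := Presheaf.equalizerSieve_mem J (CategoryTheory.toSheafify J Q.presheaf)
    (q.app (op X) ((kernel.ι S.g).val.app (op X) y)) (0 : Q.presheaf.obj (op X)) (by
      rw [map_zero]
      exact hzero)
  refine ⟨_, hloc, fun Y f hfT => ?_⟩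
  have h0 : q.app (op Y) (S.X₂.val.presheaf.map f.op ((kernel.ι S.g).val.app (op X) y)) = 0 := by
    refine (PresheafOfModules.naturality_apply q f.op _).trans ?_
    exact hfT.trans (map_zero _)
  have hex := (ShortComplex.exact_of_g_is_cokernel (ShortComplex.mk S.f.val q (cokernel.condition _))
    (cokernelIsCokernel _)).map (PresheafOfModules.evaluation R.obj (op Y))
  rw [ShortComplex.moduleCat_exact_iff] at hex
  exact hex _ h0

end

end Groth.L23.Adq
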