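import Groth.Agent.L23.AdeqSite.Sheafify
import Groth.Agent.L23.AdeqSite.Exact
import Groth.Agent.L23.Adeq.Extension

/-!
# Extensions of adequate modules on the big fppf site
-/

universe u

open CategoryTheory Limits Opposite AlgebraicGeometry TensorProduct

set_option backward.isDefEq.respectTransparency.types false
set_option linter.style.haveILetI false

namespace Groth.L23.Adq

open _root_.Adeq

noncomputable section

variable {S : Scheme.{u}}

local notation "Kf" => Scheme.fppfPrecoverage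

section Tensor

variable {R : Type u} [CommRing R] (C D E : Type u) [CommRing C] [CommRing D] [CommRing E]
  [Algebra R C] [Algebra R D] [Algebra R E]

/-- The first projection of a triple overlap. -/
abbrev q01 : algOf R (C ⊗[R] D) ⟶ algOf R (C ⊗[R] (D ⊗[R] E)) :=
  CommAlgCat.ofHom (Algebra.TensorProduct.map (AlgHom.id R C)
    (Algebra.TensorProduct.includeLeft : D →ₐ[R] D ⊗[R] E))

/-- The second projection of a triple overlap. -/
abbrev q02 : algOf R (C ⊗[R] E) ⟶ algOf R (C ⊗[R] (D ⊗[R] E)) :=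
  CommAlgCat.ofHom (Algebra.TensorProduct.map (AlgHom.id R C)
    (Algebra.TensorProduct.includeRight : E →ₐ[R] D ⊗[R] E))

/-- The third projection of a triple overlap. -/
abbrev q12 : algOf R (D ⊗[R] E) ⟶ algOf R (C ⊗[R] (D ⊗[R] E)) :=
  CommAlgCat.ofHom (Algebra.TensorProduct.includeRight : D ⊗[R] E →ₐ[R] C ⊗[R] (D ⊗[R] E))

end Tensor

section Correct

variable {R : Type u} [CommRing R] {κ : Type u} [Fintype κ] [DecidableEq κ] (D : κ → Type u) [∀ k, CommRing (D k)]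
  [∀ k, Algebra R (D k)]

theorem c01_p₃ (k l m : κ) : c01 ≫ (piDecomp₃ (R := R) D).p (k, (l, m)) =
    (piDecomp₂ (R := R) D).p (k, l) ≫ q01 (D k) (D l) (D m) :=
  CommAlgCat.hom_ext (Algebra.TensorProduct.ext' fun _ _ => rfl)

theorem c02_p₃ (k l m : κ) : c02 ≫ (piDecomp₃ (R := R) D).p (k, (l, m)) =
    (piDecomp₂ (R := R) D).p (k, m) ≫ q02 (D k) (D l) (D m) :=
  CommAlgCat.hom_ext (Algebra.TensorProduct.ext' fun _ _ => rfl)

theorem c12_p₃ (k l m : κ) : c12 ≫ (piDecomp₃ (R := R) D).p (k, (l, m)) =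
    (piDecomp₂ (R := R) D).p (l, m) ≫ q12 (D k) (D l) (D m) :=
  CommAlgCat.hom_ext (Algebra.TensorProduct.ext' fun _ _ => rfl)

theorem prL_q01 (k l m : κ) : prL (R := CommRingCat.of R) (D k) (D l) ≫ q01 (D k) (D l) (D m) =
    prL (R := CommRingCat.of R) (D k) (D m) ≫ q02 (D k) (D l) (D m) :=
  CommAlgCat.hom_ext (DFunLike.ext _ _ fun _ => rfl)

theorem prR_q01 (k l m : κ) : prR (R := CommRingCat.of R) (D k) (D l) ≫ q01 (D k) (D l) (D m) =
    prL (R := CommRingCat.of R) (D l) (D m) ≫ q12 (D k) (D l) (D m) :=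
  CommAlgCat.hom_ext (DFunLike.ext _ _ fun _ => rfl)

theorem prR_q02 (k l m : κ) : prR (R := CommRingCat.of R) (D k) (D m) ≫ q02 (D k) (D l) (D m) =
    prR (R := CommRingCat.of R) (D l) (D m) ≫ q12 (D k) (D l) (D m) :=
  CommAlgCat.hom_ext (DFunLike.ext _ _ fun _ => rfl)

theorem coL_p₂ (k l : κ) : coL ≫ (piDecomp₂ (R := R) D).p (k, l) =
    (piDecomp (R := R) D).p k ≫ prL (R := CommRingCat.of R) (D k) (D l) :=
  CommAlgCat.hom_ext (DFunLike.ext _ _ fun _ => rfl)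

theorem coR_p₂ (k l : κ) : coR ≫ (piDecomp₂ (R := R) D).p (k, l) =
    (piDecomp (R := R) D).p l ≫ prR (R := CommRingCat.of R) (D k) (D l) :=
  CommAlgCat.hom_ext (DFunLike.ext _ _ fun _ => rfl)

theorem cocycle_aux {F₁ F₂ : MVF R} (f : F₁ ⟶ F₂) {E E₃ T U V W A B C : Alg R}
    (hf : Function.Injective (ap f T)) (c₁ c₂ c₃ : E ⟶ E₃) (p : E₃ ⟶ T) (p₁ : E ⟶ U) (p₂ : E ⟶ V) (p₃ : E ⟶ W)
    (q₁ : U ⟶ T) (q₂ : V ⟶ T) (q₃ : W ⟶ T) (h₁ : c₁ ≫ p = p₁ ≫ q₁) (h₂ : c₂ ≫ p = p₂ ≫ q₂) (h₃ : c₃ ≫ p = p₃ ≫ q₃)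
    (a₁ : A ⟶ U) (b₁ : B ⟶ U) (a₂ : A ⟶ V) (e₂ : C ⟶ V) (b₃ : B ⟶ W) (e₃ : C ⟶ W)
    (hA : a₁ ≫ q₁ = a₂ ≫ q₂) (hB : b₁ ≫ q₁ = b₃ ≫ q₃) (hC : e₂ ≫ q₂ = e₃ ≫ q₃)
    (δ : F₁.obj (pt E)) (yA : F₂.obj (pt A)) (yB : F₂.obj (pt B)) (yC : F₂.obj (pt C))
    (x₁ : ap f U (tr F₁ p₁ δ) = tr F₂ a₁ yA - tr F₂ b₁ yB)
    (x₂ : ap f V (tr F₁ p₂ δ) = tr F₂ a₂ yA - tr F₂ e₂ yC)
    (x₃ : ap f W (tr F₁ p₃ δ) = tr F₂ b₃ yB - tr F₂ e₃ yC) :
    tr F₁ p (tr F₁ c₁ δ - tr F₁ c₂ δ + tr F₁ c₃ δ) = tr F₁ p 0 := by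
  refine hf ?_
  rw [map_add (tr F₁ p), map_sub (tr F₁ p), map_zero (tr F₁ p), ← tr_comp, ← tr_comp, ← tr_comp, h₁, h₂, h₃,
    tr_comp, tr_comp, tr_comp, map_add, map_sub, map_zero, ap_tr f q₁, ap_tr f q₂, ap_tr f q₃, x₁, x₂, x₃,
    map_sub, map_sub, map_sub, ← tr_comp, ← tr_comp, ← tr_comp, ← tr_comp, ← tr_comp, ← tr_comp, hA, hB, hC]
  abel

/-- Local lifts can be corrected to agree on overlaps. -/
theorem exists_correction [Module.FaithfullyFlat R (∀ k, D k)] {F₁ F₂ : MVF R} (f : F₁ ⟶ F₂) (e : Emb F₁)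
    (hf : ∀ B, Function.Injective (ap f B)) (y : ∀ k, F₂.obj (pt (algOf R (D k))))
    (x : ∀ p : κ × κ, F₁.obj (pt (algOf R (D p.1 ⊗[R] D p.2))))
    (hx : ∀ p : κ × κ, ap f (algOf R (D p.1 ⊗[R] D p.2)) (x p) =
      tr F₂ (prL (R := CommRingCat.of R) (D p.1) (D p.2)) (y p.1) -
        tr F₂ (prR (R := CommRingCat.of R) (D p.1) (D p.2)) (y p.2)) :
    ∃ w : ∀ k, F₁.obj (pt (algOf R (D k))), ∀ k l,
      tr F₂ (prL (R := CommRingCat.of R) (D k) (D l)) (y k - ap f (algOf R (D k)) (w k)) =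
        tr F₂ (prR (R := CommRingCat.of R) (D k) (D l)) (y l - ap f (algOf R (D l)) (w l)) := by
  obtain ⟨δ, hδ⟩ := (piDecomp₂ (R := R) D).exists_glue e x
  obtain ⟨w, hw⟩ := exists_cobound (B := ∀ k, D k) e δ ((piDecomp₃ (R := R) D).ext e _ _ fun q => by
    obtain ⟨k, l, m⟩ := q
    exact cocycle_aux f (hf _) c01 c02 c12 ((piDecomp₃ (R := R) D).p (k, (l, m))) ((piDecomp₂ (R := R) D).p (k, l))
      ((piDecomp₂ (R := R) D).p (k, m)) ((piDecomp₂ (R := R) D).p (l, m)) _ _ _ (c01_p₃ D k l m) (c02_p₃ D k l m)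
      (c12_p₃ D k l m) _ _ _ _ _ _ (prL_q01 D k l m) (prR_q01 D k l m) (prR_q02 D k l m) δ (y k) (y l) (y m)
      ((congrArg (fun t => ap f (algOf R (D k ⊗[R] D l)) t) (hδ (k, l))).trans (hx (k, l))) ((congrArg (fun t => ap f (algOf R (D k ⊗[R] D m)) t) (hδ (k, m))).trans (hx (k, m)))
      ((congrArg (fun t => ap f (algOf R (D l ⊗[R] D m)) t) (hδ (l, m))).trans (hx (l, m))))
  refine ⟨fun k => tr F₁ ((piDecomp (R := R) D).p k) w, fun k l => ?_⟩
  have h := hx (k, l)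
  rw [← hδ (k, l), ← hw, map_sub, ← tr_comp, ← tr_comp, coL_p₂, coR_p₂, tr_comp, tr_comp, map_sub,
    ap_tr f (prL (R := CommRingCat.of R) (D k) (D l)), ap_tr f (prR (R := CommRingCat.of R) (D k) (D l))] at h
  rw [← sub_eq_zero, map_sub, map_sub, sub_sub_sub_comm, ← h, sub_self]

end Correct

theorem exact_of_elements {A : Type u} [CommRing A] (T : ShortComplex (MVF A))
    (h : ∀ B x, ap T.g B x = 0 → ∃ y, ap T.f B y = x) : T.Exact := by
  refine T.exact_iff_kernel_ι_comp_cokernel_π_zero.2 (hom_ext' fun B y => ?_)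
  exact (ap_cokernel_π_eq_zero T.f B _).2 (h B _ (ap_kernel_ι T.g B y))

variable (C : ShortComplex (BigSite.Mod Kf S))

theorem toMVF_injective [Mono C.f] {R : CommRingCat.{u}} (a : Spec R ⟶ S) (B : Alg R) :
    Function.Injective (ap ((toMVF Kf a).map C.f) B) :=
  injective_mono_section C.f (op ((specOver a).obj (op B)))

theorem toMVF_exact [Mono C.f] (hC : C.Exact) {R : CommRingCat.{u}} (a : Spec R ⟶ S) (B : Alg R)
    (x : ((toMVF Kf a).obj C.X₂).obj (pt B)) (hx : ap ((toMVF Kf a).map C.g) B x = 0) :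
    ∃ y, ap ((toMVF Kf a).map C.f) B y = x := by
  obtain ⟨k, rfl⟩ := exists_kernel_section C.g (op ((specOver a).obj (op B))) x hx
  refine ⟨(hC.lift (kernel.ι C.g) (kernel.condition C.g)).val.app (op ((specOver a).obj (op B))) k, ?_⟩
  exact congrArg (fun (t : kernel C.g ⟶ C.X₂) => t.val.app (op ((specOver a).obj (op B))) k)
    (hC.lift_f (kernel.ι C.g) (kernel.condition C.g))

theorem section_surjective_base (hC : C.ShortExact)
    (h₁ : ∀ (R : CommRingCat.{u}) (a : Spec R ⟶ S), adequate R ((toMVF Kf a).obj C.X₁))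
    {R : CommRingCat.{u}} (a : Spec R ⟶ S) : Function.Surjective (C.g.val.app (op (base a))) := by
  classical
  haveI := hC.mono_f
  haveI := hC.epi_g
  intro s
  let S' : ShortComplex (BigSite.Mod Kf S) := ShortComplex.mk C.g (0 : C.X₃ ⟶ C.X₃) comp_zero
  have hS' : S'.Exact := (S'.exact_iff_epi rfl).2 hC.epi_g
  obtain ⟨T, hT, hlift⟩ := exists_local_lift S' hS' (base a) s rfl
  obtain ⟨κ, _, D, _, _, hP, hflat, hsur, hcomap, hV⟩ := exists_finite_refinement a T hT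
  choose y hy using fun k => hlift _ (hV k)
  let F₁ := (toMVF Kf a).obj C.X₁
  let F₂ := (toMVF Kf a).obj C.X₂
  let F₃ := (toMVF Kf a).obj C.X₃
  let f : F₁ ⟶ F₂ := (toMVF Kf a).map C.f
  let g : F₂ ⟶ F₃ := (toMVF Kf a).map C.g
  let y' : ∀ k, F₂.obj (pt (algOf R (D k))) := y
  have hgy : ∀ k, ap g (algOf R (D k)) (y' k) = tr F₃ toB s := hy
  have hfg : ∀ B z, ap g B (ap f B z) = 0 := fun B z =>
    congrArg (fun (t : C.X₁ ⟶ C.X₃) => t.val.app (op ((specOver a).obj (op B))) z) C.zero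
  have hδ : ∀ p : κ × κ, ∃ x, ap f (algOf R (D p.1 ⊗[R] D p.2)) x = tr F₂ (prL (D p.1) (D p.2)) (y' p.1) - tr F₂ (prR (D p.1) (D p.2)) (y' p.2) := by
    intro p
    refine toMVF_exact C hC.exact a _ _ ?_
    show ap g (algOf R (D p.1 ⊗[R] D p.2)) _ = 0
    rw [map_sub, ap_tr, ap_tr, hgy, hgy, ← tr_comp, ← tr_comp, sub_eq_zero]
    refine congrArg (fun t => tr F₃ t s) ?_
    exact CommAlgCat.hom_ext (DFunLike.ext _ _ fun r =>
      (((prL (D p.1) (D p.2)).hom).commutes r).trans (((prR (D p.1) (D p.2)).hom).commutes r).symm)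
  choose x hx using hδ
  obtain ⟨e⟩ := nonempty_emb (h₁ R a)
  haveI := faithfullyFlat_pi D hflat hcomap
  obtain ⟨w, hz⟩ := exists_correction D f e (toMVF_injective C a) y' x hx
  let z : ∀ k, F₂.obj (pt (algOf R (D k))) := fun k => y' k - ap f (algOf R (D k)) (w k)
  obtain ⟨t, ht⟩ := exists_glue FP C.X₂ (fun k => (specOver a).obj (op (algOf R (D k)))) (fun k => prMor a (D k))
    hP hsur z fun k l W u v huv => by
      obtain ⟨w', rfl, rfl⟩ := exists_overlap a (D k) (D l) W u v huv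
      rw [res_comp, res_comp]
      exact congrArg (res FP C.X₂ w') (hz k l)
  refine ⟨t, eq_of_res_eq FP C.X₃ _ (fun k => prMor a (D k)) hP hsur _ _ fun k => ?_⟩
  refine (PresheafOfModules.naturality_apply C.g.val (prMor a (D k)).op t).symm.trans ?_
  refine (congrArg (C.g.val.app _) (ht k)).trans ?_
  show ap g (algOf R (D k)) (y' k - ap f (algOf R (D k)) (w k)) = tr F₃ toB s
  rw [map_sub, hgy, hfg, sub_zero]

theorem toMVF_surjective (hC : C.ShortExact)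
    (h₁ : ∀ (R : CommRingCat.{u}) (a : Spec R ⟶ S), adequate R ((toMVF Kf a).obj C.X₁))
    {R : CommRingCat.{u}} (a : Spec R ⟶ S) (B : Alg R) :
    Function.Surjective (ap ((toMVF Kf a).map C.g) B) := by
  show Function.Surjective (C.g.val.app (op ((specOver a).obj (op B))))
  rw [← base_eq a B]
  exact section_surjective_base C hC h₁ _

/-- An extension of adequate modules is adequate. -/
theorem adequateMod_extension (hC : C.ShortExact) (h₁ : adequateMod Kf S C.X₁) (h₃ : adequateMod Kf S C.X₃) :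
    adequateMod Kf S C.X₂ := by
  haveI := hC.mono_f
  refine fppf_adequateMod_of_forall _ fun R a => ?_
  let S' : ShortComplex (MVF R) := C.map (toMVF Kf a)
  have hS : S'.ShortExact :=
    { exact := exact_of_elements S' fun B x hx => toMVF_exact C hC.exact a B x hx
      mono_f := (mono_iff' S'.f).2 (toMVF_injective C a)
      epi_g := (epi_iff' S'.g).2 (toMVF_surjective C hC (fun R a => fppf_adequate_toMVF h₁ a) a) }
  exact adequate_extension S' hS (fppf_adequate_toMVF h₁ a) (fppf_adequate_toMVF h₃ a)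

end

end Groth.L23.Adq
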