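import Groth.Agent.L23.Adeq.Change
import Groth.Agent.L23.Adeq.Extension
import Mathlib.Algebra.Category.ModuleCat.Presheaf.Abelian
import Mathlib.CategoryTheory.Preadditive.Biproducts
import Mathlib.CategoryTheory.Limits.ConcreteCategory.Basic
import Mathlib.Algebra.Category.ModuleCat.Presheaf.Limits

/-!
# Descent of adequacy along a finite family
-/

universe u

open CategoryTheory Limits Opposite

set_option backward.isDefEq.respectTransparency.types false
set_option linter.style.haveILetI false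
set_option maxHeartbeats 200000

namespace Groth.L23.Adq

open _root_.Adeq

noncomputable section

variable {A : Type u} [CommRing A]

instance : HasFiniteBiproducts (MVF A) := Abelian.hasFiniteBiproducts

theorem adequate_finite_biproduct {ι : Type (u + 1)} [Fintype ι] (F : ι → MVF A) (h : ∀ i, adequate A (F i)) :
    adequate A (⨁ F) :=
  (adequate A).prop_of_iso (biproduct.isoCoproduct F).symm (adequate_sigma F h)

instance evalPL (B : Alg A) (ι : Type (u + 1)) (D : Discrete ι ⥤ MVF A) :
    PreservesLimit D (PresheafOfModules.evaluation.{u + 1} (ringOf A) (pt B)) :=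
  PresheafOfModules.evaluation_preservesLimit _ _

theorem biproduct_ext {ι : Type (u + 1)} [Fintype ι] (F : ι → MVF A) (B : Alg A) (x y : (⨁ F).obj (pt B))
    (h : ∀ i, ap (biproduct.π F i) B x = ap (biproduct.π F i) B y) : x = y :=
  Concrete.isLimit_ext _ (isLimitOfPreserves (PresheafOfModules.evaluation.{u + 1} (ringOf A) (pt B))
    (biproduct.isLimit F)) x y fun i => h i.as

theorem ap_sub {F G : MVF A} (φ θ : F ⟶ G) (B : Alg A) (x : F.obj (pt B)) :
    ap (φ - θ) B x = ap φ B x - ap θ B x := rfl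

/-- A functor which is the equaliser of finitely many adequate functors is adequate. -/
theorem adequate_of_equalizer {F : MVF A} {I J : Type (u + 1)} [Fintype I] [Fintype J] (G : I → MVF A)
    (H : J → MVF A) (hG : ∀ i, adequate A (G i)) (hH : ∀ j, adequate A (H j)) (η : ∀ i, F ⟶ G i)
    (s t : J → I) (p : ∀ j, G (s j) ⟶ H j) (q : ∀ j, G (t j) ⟶ H j)
    (w : ∀ j, η (s j) ≫ p j = η (t j) ≫ q j)
    (hinj : ∀ B x, (∀ i, ap (η i) B x = 0) → x = 0)
    (hex : ∀ B (y : ∀ i, (G i).obj (pt B)), (∀ j, ap (p j) B (y (s j)) = ap (q j) B (y (t j))) →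
      ∃ x, ∀ i, ap (η i) B x = y i) : adequate A F := by
  let ηt : F ⟶ ⨁ G := biproduct.lift η
  let d : (⨁ G) ⟶ ⨁ H := biproduct.lift fun j => biproduct.π G (s j) ≫ p j - biproduct.π G (t j) ≫ q j
  have hη : ∀ B x i, ap (biproduct.π G i) B (ap ηt B x) = ap (η i) B x := fun B x i =>
    congrArg (fun (φ : F ⟶ G i) => ap φ B x) (biproduct.lift_π η i)
  have hd : ∀ B y j, ap (biproduct.π H j) B (ap d B y) =
      ap (p j) B (ap (biproduct.π G (s j)) B y) - ap (q j) B (ap (biproduct.π G (t j)) B y) := fun B y j =>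
    congrArg (fun (φ : (⨁ G) ⟶ H j) => ap φ B y) (biproduct.lift_π _ j)
  have h0 : ηt ≫ d = 0 := hom_ext' fun B x => by
    refine biproduct_ext H B _ _ fun j => ?_
    show ap (biproduct.π H j) B (ap d B (ap ηt B x)) = _
    rw [hd, hη, hη]
    refine (sub_eq_zero.2 (congrArg (fun (φ : F ⟶ H j) => ap φ B x) (w j))).trans ?_
    exact (map_zero (ap (biproduct.π H j) B)).symm
  have hlift : ∀ B x, ap (kernel.ι d) B (ap (kernel.lift d ηt h0) B x) = ap ηt B x := fun B x =>
    congrArg (fun (φ : F ⟶ ⨁ G) => ap φ B x) (kernel.lift_ι d ηt h0)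
  haveI : IsIso (kernel.lift d ηt h0) := isIso_of_bijective _ fun B => by
    refine ⟨(injective_iff_map_eq_zero _).2 fun x hx => hinj B x fun i => ?_, fun z => ?_⟩
    · rw [← hη, ← hlift, hx, map_zero, map_zero]
    · obtain ⟨x, hx⟩ := hex B (fun i => ap (biproduct.π G i) B (ap (kernel.ι d) B z)) fun j => by
        have h := hd B (ap (kernel.ι d) B z) j
        rw [ap_kernel_ι, map_zero] at h
        exact sub_eq_zero.1 h.symm
      refine ⟨x, injective_ap_kernel_ι d B ((hlift B x).trans (biproduct_ext G B _ _ fun i => ?_))⟩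
      exact (hη B x i).trans (hx i)
  exact (adequate A).prop_of_iso (asIso (kernel.lift d ηt h0)).symm
    (adequate_kernel d (adequate_finite_biproduct G hG) (adequate_finite_biproduct H hH))

variable {κ : Type u} [Fintype κ] (C : κ → Type u) [∀ k, CommRing (C k)] [∀ k, Algebra A (C k)]

theorem unitMap_pair {C₁ C₂ : Type u} [CommRing C₁] [CommRing C₂] [Algebra A C₁] [Algebra A C₂] (F : MVF A) :
    unitMap (A' := C₁) F ≫ unitMap (A' := C₂) ((push A C₁).obj ((restr A C₁).obj F)) =
      unitMap (A' := C₂) F ≫ (push A C₂).map ((restr A C₂).map (unitMap (A' := C₁) F)) :=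
  hom_ext' fun B x => by
    show tr F ((Alg.restr A C₁).map ((Alg.baseChange A C₁).map (Alg.unit A C₂ B))) (tr F (Alg.unit A C₁ B) x) =
      tr F (Alg.unit A C₁ ((Alg.restr A C₂).obj ((Alg.baseChange A C₂).obj B))) (tr F (Alg.unit A C₂ B) x)
    rw [← tr_comp, ← tr_comp]
    refine congrArg (fun (t : B ⟶ _) => tr F t x) ?_
    apply CommAlgCat.hom_ext
    exact DFunLike.ext _ _ fun b => rfl

/-- Descent of adequacy along a finite family. -/
theorem adequate_of_family (F : MVF A) (h₁ : ∀ k, adequate (C k) ((restr A (C k)).obj F))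
    (hinj : ∀ (B : Alg A) (x : F.obj (pt B)), (∀ k, tr F (Alg.unit A (C k) B) x = 0) → x = 0)
    (hex : ∀ (B : Alg A) (y : ∀ k, F.obj (pt ((Alg.restr A (C k)).obj ((Alg.baseChange A (C k)).obj B)))),
      (∀ k l, tr F (Alg.unit A (C l) ((Alg.restr A (C k)).obj ((Alg.baseChange A (C k)).obj B))) (y k) =
        tr F ((Alg.restr A (C l)).map ((Alg.baseChange A (C l)).map (Alg.unit A (C k) B))) (y l)) →
      ∃ x, ∀ k, tr F (Alg.unit A (C k) B) x = y k) : adequate A F := by
  refine adequate_of_equalizer (I := ULift.{u + 1} κ) (J := ULift.{u + 1} (κ × κ))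
    (fun k => (push A (C k.down)).obj ((restr A (C k.down)).obj F))
    (fun p => (push A (C p.down.2)).obj ((restr A (C p.down.2)).obj
      ((push A (C p.down.1)).obj ((restr A (C p.down.1)).obj F))))
    (fun k => adequate_push' (h₁ _)) (fun p => adequate_push' (adequate_restr' (adequate_push' (h₁ _))))
    (fun k => unitMap F) (fun p => ⟨p.down.1⟩) (fun p => ⟨p.down.2⟩) (fun p => unitMap _)
    (fun p => (push A (C p.down.2)).map ((restr A (C p.down.2)).map (unitMap F))) (fun p => unitMap_pair F)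
    (fun B x hx => hinj B x fun k => hx ⟨k⟩) fun B y hy => ?_
  obtain ⟨x, hx⟩ := hex B (fun k => y ⟨k⟩) fun k l => (hy ⟨(l, k)⟩).symm
  exact ⟨x, fun k => hx k.down⟩

end

end Groth.L23.Adq
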