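import Groth.Agent.L23.AdeqSite.Setup
import Groth.Agent.L23.AdeqSite.Exact
import Groth.Agent.L23.Adeq.Flat
import Groth.Agent.L23.Adeq.Amitsur
import Mathlib.AlgebraicGeometry.Sites.Fpqc
import Mathlib.RingTheory.RingHom.Flat

/-!
# Adequate modules on the big fppf and Zariski sites
-/

universe u

open CategoryTheory Limits Opposite AlgebraicGeometry

set_option backward.isDefEq.respectTransparency.types false
set_option linter.style.haveILetI false

namespace Groth.L23.Adq

open _root_.Adeq

noncomputable section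

/-- Flat and locally of finite presentation. -/
abbrev FP : MorphismProperty Scheme.{u} := @Flat ⊓ @LocallyOfFinitePresentation

theorem fp_of_open {X Y : Scheme.{u}} (f : X ⟶ Y) [IsOpenImmersion f] : FP f :=
  ⟨inferInstanceAs (Flat f), inferInstanceAs (LocallyOfFinitePresentation f)⟩

instance : FP.{u}.ContainsIdentities := ⟨fun X => fp_of_open (𝟙 X)⟩

instance : Scheme.fppfPrecoverage.{u}.HasIsos := inferInstanceAs ((Scheme.precoverage FP.{u}).HasIsos)

theorem isOpenMap_of_fp {X Y : Scheme.{u}} (f : X ⟶ Y) (h : FP f) : IsOpenMap f := by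
  obtain ⟨h1, h2⟩ := h
  exact f.isOpenMap

instance : BigSite.OSh (Scheme.precoverage FP.{u}) := inferInstanceAs (BigSite.OSh Scheme.fppfPrecoverage.{u})

instance : BigSite.OSh (Scheme.precoverage @IsOpenImmersion.{u}) :=
  inferInstanceAs (BigSite.OSh Scheme.zariskiPrecoverage.{u})

variable {S T : Scheme.{u}}

local notation "Kf" => Scheme.fppfPrecoverage

theorem fppf_adequate_toMVF {M : BigSite.Mod Kf S} (hM : adequateMod Kf S M) {R : CommRingCat.{u}}
    (a : Spec R ⟶ S) : adequate R ((toMVF Kf a).obj M) :=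
  adequate_toMVF FP (fun f _ => fp_of_open f) (fun f => isOpenMap_of_fp f) M hM a

theorem fppf_adequateMod_of_forall (M : BigSite.Mod Kf S)
    (h : ∀ (R : CommRingCat.{u}) (a : Spec R ⟶ S), adequate R ((toMVF Kf a).obj M)) : adequateMod Kf S M :=
  adequateMod_of_forall FP (fun f _ => fp_of_open f) M h

theorem zariski_adequate_toMVF {M : BigSite.Mod Scheme.zariskiPrecoverage S}
    (hM : adequateMod Scheme.zariskiPrecoverage S M) {R : CommRingCat.{u}} (a : Spec R ⟶ S) :
    adequate R ((toMVF Scheme.zariskiPrecoverage a).obj M) :=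
  adequate_toMVF @IsOpenImmersion (fun _ h => h) (fun f h => by
    haveI := h
    exact f.isOpenEmbedding.isOpenMap) M hM a

variable (P : MorphismProperty Scheme.{u}) [BigSite.OSh (Scheme.precoverage P)]

local notation "K" => Scheme.precoverage P

set_option maxHeartbeats 1000000 in
/-- The functor of a pulled back module. -/
theorem toMVF_pull (f : T ⟶ S) {R : CommRingCat.{u}} (a : Spec R ⟶ T) (M : BigSite.Mod K S) :
    Nonempty ((toMVF K a).obj ((BigSite.pullMod K f).obj M) ≅ (toMVF K (a ≫ f)).obj M) := by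
  have hassoc : ∀ B : Alg R, (Spec.map (CommRingCat.ofHom (algebraMap R B)) ≫ a) ≫ f =
      Spec.map (CommRingCat.ofHom (algebraMap R B)) ≫ a ≫ f := fun B => Category.assoc _ _ _
  let hm : ∀ B : Alg R, (specOver (a ≫ f)).obj (op B) ⟶ (Over.map f).obj ((specOver a).obj (op B)) := fun B =>
    overId (X := Spec (CommRingCat.of (B : Type u))) _ _ (hassoc B).symm
  let hi : ∀ B : Alg R, (Over.map f).obj ((specOver a).obj (op B)) ⟶ (specOver (a ≫ f)).obj (op B) := fun B =>
    overId (X := Spec (CommRingCat.of (B : Type u))) _ _ (hassoc B)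
  let φ : (toMVF K a).obj ((BigSite.pullMod K f).obj M) ⟶ (toMVF K (a ≫ f)).obj M :=
    mkHom (fun B =>
      { toFun := fun x => res P M (hm B) x
        map_add' := fun x y => map_add _ x y
        map_smul' := fun b x => by
          refine (res_smul P M (hm B) (toSect K a B b) x).trans ?_
          refine congrArg (· • res P M _ x) (ULift.ext _ _ ?_)
          exact appTop_eq_id (X := Spec (CommRingCat.of (B : Type u))) (hm B).left rfl
            ((Scheme.ΓSpecIso (CommRingCat.of (B : Type u))).inv b) })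
      fun B B' g x => by
        show res P M _ (res P M _ x) = res P M _ (res P M _ x)
        rw [← res_comp, ← res_comp]
        exact congrArg (fun t => res P M t x) (Over.OverMorphism.ext
          (square_id (X := Spec (CommRingCat.of (B' : Type u))) (Y := Spec (CommRingCat.of (B : Type u)))
            (Spec.map (CommRingCat.ofHom g.hom.toRingHom)) (hm B').left (hm B).left rfl rfl))
  haveI : IsIso φ := isIso_of_bijective φ fun B => by
    have h1 : hm B ≫ hi B = 𝟙 _ :=
      Over.OverMorphism.ext (Category.id_comp (𝟙 (Spec (CommRingCat.of (B : Type u)))))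
    have h2 : hi B ≫ hm B = 𝟙 _ :=
      Over.OverMorphism.ext (Category.id_comp (𝟙 (Spec (CommRingCat.of (B : Type u)))))
    refine Function.bijective_iff_has_inverse.2 ⟨fun x => res P M (hi B) x, fun x => ?_, fun x => ?_⟩
    · show res P M _ (res P M _ x) = x
      exact (res_comp P M _ _ _).symm.trans ((congrArg (fun t => res P M t x) h2).trans (res_id P M _))
    · show res P M _ (res P M _ x) = x
      exact (res_comp P M _ _ _).symm.trans ((congrArg (fun t => res P M t x) h1).trans (res_id P M _))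
  exact ⟨asIso φ⟩

theorem fppf_adequateMod_pull (f : T ⟶ S) {M : BigSite.Mod Kf S} (hM : adequateMod Kf S M) :
    adequateMod Kf T ((BigSite.pullMod Kf f).obj M) :=
  fppf_adequateMod_of_forall _ fun R a =>
    (adequate R).prop_of_iso (toMVF_pull FP f a M).some.symm (fppf_adequate_toMVF hM (a ≫ f))

theorem fppf_adequateMod_of_cover {ι : Type u} (X : ι → Scheme.{u}) (f : ∀ i, X i ⟶ S)
    (hf : Presieve.ofArrows X f ∈ (Kf).coverings S) (M : BigSite.Mod Kf S)
    (h : ∀ i, adequateMod Kf (X i) ((BigSite.pullMod Kf (f i)).obj M)) : adequateMod Kf S M := by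
  refine fppf_adequateMod_of_forall M fun R a => ?_
  obtain ⟨κ, _, C, φ, i, ψ, hP, hs, hψ⟩ :=
    exists_affine_refinement FP (fun f _ => fp_of_open f) (fun f => isOpenMap_of_fp f) a _ f hf
  letI : ∀ k, Algebra R (C k) := fun k => (φ k).hom.toAlgebra
  refine adequate_of_cover FP a M C hP hs fun k => ?_
  have h' := (adequate (C k)).prop_of_iso (toMVF_pull FP (f (i k)) (ψ k) M).some (fppf_adequate_toMVF (h (i k)) (ψ k))
  rw [hψ k] at h'
  exact h'

theorem fppf_adequateMod_kernel {M N : BigSite.Mod Kf S} (φ : M ⟶ N) (hM : adequateMod Kf S M)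
    (hN : adequateMod Kf S N) : adequateMod Kf S (kernel φ) := by
  refine fppf_adequateMod_of_forall _ fun R a => ?_
  let F := toMVF Kf a
  have h0 : F.map (kernel.ι φ) ≫ F.map φ = 0 := by rw [← F.map_comp, kernel.condition, F.map_zero]
  let k : F.obj (kernel φ) ⟶ kernel (F.map φ) := kernel.lift _ (F.map (kernel.ι φ)) h0
  have hk : ∀ B x, ap (kernel.ι (F.map φ)) B (ap k B x) = ap (F.map (kernel.ι φ)) B x := fun B x =>
    congrArg (fun (t : F.obj (kernel φ) ⟶ F.obj M) => ap t B x) (kernel.lift_ι _ _ h0)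
  haveI : IsIso k := isIso_of_bijective k fun B => by
    refine ⟨fun x y h => injective_mono_section (kernel.ι φ) (op ((specOver a).obj (op B)))
      ((hk B x).symm.trans ((congrArg _ h).trans (hk B y))), fun y => ?_⟩
    obtain ⟨x, hx⟩ := exists_kernel_section φ (op ((specOver a).obj (op B)))
      (ap (kernel.ι (F.map φ)) B y) (ap_kernel_ι _ B y)
    exact ⟨x, injective_ap_kernel_ι _ B ((hk B x).trans hx)⟩
  exact (adequate R).prop_of_iso (asIso k).symm
    (adequate_kernel _ (fppf_adequate_toMVF hM a) (fppf_adequate_toMVF hN a))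

theorem fppf_descent {M : BigSite.Mod Kf S} (hM : adequateMod Kf S M) {R : CommRingCat.{u}} (a : Spec R ⟶ S)
    (B : Type u) [CommRing B] [Algebra R B] [Module.FaithfullyFlat R B] :
    Function.Injective (tr ((toMVF Kf a).obj M) (toB (R := R) (B := B))) ∧
      ∀ y, tr ((toMVF Kf a).obj M) (coL (R := R) (B := B)) y = tr ((toMVF Kf a).obj M) coR y →
        ∃ x, tr ((toMVF Kf a).obj M) (toB (R := R) (B := B)) x = y :=
  adequate_descent (nonempty_emb (fppf_adequate_toMVF hM a)).some

theorem parasitic_of_exact (C : ShortComplex (BigSite.Mod Kf S)) (hC : C.Exact)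
    (p₁ : parasitic Kf S C.X₁) (p₃ : parasitic Kf S C.X₃) : parasitic Kf S C.X₂ := by
  intro U hU
  refine subsingleton_of_forall_eq 0 fun x => ?_
  haveI := p₃ U hU
  obtain ⟨V, hV, hl⟩ := exists_local_lift C hC U x (Subsingleton.elim _ _)
  rw [GrothendieckTopology.mem_over_iff] at hV
  obtain ⟨W, hW, hle⟩ := Precoverage.mem_toGrothendieck_iff_of_isStableUnderComposition.1 hV
  obtain ⟨𝒰, rfl⟩ := Precoverage.mem_iff_exists_zeroHypercover.mp hW
  obtain ⟨hsur, hprop⟩ := (Scheme.ofArrows_mem_precoverage_iff FP).1 𝒰.mem₀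
  choose i y hy using hsur
  refine eq_of_res_eq FP C.X₂ (fun t => Over.mk (𝒰.f (i t) ≫ U.hom))
    (fun t => (Over.homMk (U := Over.mk (𝒰.f (i t) ≫ U.hom)) (V := U) (𝒰.f (i t)) rfl))
    (fun t => hprop (i t)) (fun t => ⟨t, y t, hy t⟩) x 0 fun t => ?_
  haveI : Flat (𝒰.f (i t)) := (hprop (i t)).1
  haveI : Subsingleton (BigSite.sectMod Kf C.X₁ (Over.mk (𝒰.f (i t) ≫ U.hom))) :=
    p₁ _ (show Flat (𝒰.f (i t) ≫ U.hom) from inferInstance)
  obtain ⟨z, hz⟩ := hl (Over.homMk (U := Over.mk (𝒰.f (i t) ≫ U.hom)) (V := U) (𝒰.f (i t)) rfl)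
    ((Sieve.overEquiv_iff (Y := U) V _).1 (hle _ _ ⟨i t⟩))
  rw [map_zero]
  refine hz.symm.trans ?_
  rw [Subsingleton.elim z 0, map_zero]

theorem parasitic_tfae {M : BigSite.Mod Kf S} (hM : adequateMod Kf S M) :
    List.TFAE [parasitic Kf S M, parasiticFor Kf S M,
      ∀ U : S.Opens, Subsingleton (BigSite.sectMod Kf M ((BigSite.zarIncl S).obj U)),
      ∃ (ι : Type u) (U : ι → S.Opens), (∀ i, IsAffineOpen (U i)) ∧ (⨆ i, U i) = ⊤ ∧
        ∀ i, Subsingleton (BigSite.sectMod Kf M ((BigSite.zarIncl S).obj (U i)))] := by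
  tfae_have 1 → 2 := by
    intro h Q hQ V g hg
    obtain ⟨𝒰, rfl⟩ := Precoverage.mem_iff_exists_zeroHypercover.mp hQ
    obtain ⟨i⟩ := hg
    exact h _ (((Scheme.ofArrows_mem_precoverage_iff FP).1 𝒰.mem₀).2 i).1
  tfae_have 2 → 3 := by
    intro h U
    let X : Option S.affineCover.I₀ → Scheme.{u} := fun o => o.elim U.toScheme S.affineCover.X
    let g : ∀ o, X o ⟶ S := fun o => match o with
      | none => U.ι
      | some i => S.affineCover.f i
    have hQ : Presieve.ofArrows X g ∈ (Kf).coverings S := by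
      refine (Scheme.ofArrows_mem_precoverage_iff FP).2 ⟨fun x => ?_, fun o => ?_⟩
      · obtain ⟨j, y, hy⟩ := S.affineCover.exists_eq x
        exact ⟨some j, y, hy⟩
      · match o with
        | none => exact fp_of_open U.ι
        | some i => exact @fp_of_open _ _ _ (S.affineCover.map_prop i)
    exact h hQ (g none) ⟨none⟩
  tfae_have 3 → 4 := fun h => ⟨S.affineOpens, fun U => U.1, fun U => U.2, iSup_affineOpens_eq_top S, fun i => h i.1⟩
  tfae_have 4 → 1 := by
    rintro ⟨ι, V, hV, hsup, h0⟩ U hU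
    refine subsingleton_of_forall_eq 0 fun x => ?_
    have key : ∀ t : ↥U.left, ∃ (i : ι) (B : CommRingCat.{u}) (j : Spec B ⟶ U.left)
        (ψ : Spec B ⟶ Spec Γ(S, V i)), IsOpenImmersion j ∧ t ∈ Set.range j ∧
          ψ ≫ (hV i).fromSpec = j ≫ U.hom := by
      intro t
      have ht : U.hom t ∈ (⊤ : S.Opens) := trivial
      rw [← hsup, TopologicalSpace.Opens.mem_iSup] at ht
      obtain ⟨i, hi⟩ := ht
      obtain ⟨k, w, hw⟩ := (U.hom ⁻¹ᵁ V i).toScheme.affineCover.exists_eq ⟨t, hi⟩
      haveI := (U.hom ⁻¹ᵁ V i).toScheme.affineCover.map_prop k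
      refine ⟨i, _, (U.hom ⁻¹ᵁ V i).toScheme.affineCover.f k ≫ (U.hom ⁻¹ᵁ V i).ι,
        (U.hom ⁻¹ᵁ V i).toScheme.affineCover.f k ≫ (U.hom ∣_ V i) ≫ (hV i).isoSpec.hom, ?_, ⟨w, ?_⟩, ?_⟩
      · exact @IsOpenImmersion.comp _ _ _ _ _ ((U.hom ⁻¹ᵁ V i).toScheme.affineCover.map_prop k) inferInstance
      · exact (Scheme.Hom.comp_apply _ _ w).trans (congrArg _ hw)
      · rw [Category.assoc, Category.assoc, Category.assoc, IsAffineOpen.fromSpec, Iso.hom_inv_id_assoc,
          morphismRestrict_ι]
    choose i B j ψ hj ht hψ using key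
    refine eq_of_res_eq FP M (fun t => Over.mk (j t ≫ U.hom)) (fun t => Over.homMk (j t) rfl)
      (fun t => @fp_of_open _ _ _ (hj t)) (fun t => ⟨t, ht t⟩) x 0 fun t => ?_
    haveI := hj t
    haveI : Flat U.hom := hU
    haveI : IsOpenImmersion (hV (i t)).fromSpec := inferInstance
    have hflat : Flat (ψ t) := by
      haveI : Flat (ψ t ≫ (hV (i t)).fromSpec) := by rw [hψ t]; infer_instance
      exact MorphismProperty.of_postcomp (W := @Flat) (W' := @IsOpenImmersion) (ψ t) (hV (i t)).fromSpec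
        inferInstance ‹_›
    letI : Algebra Γ(S, V (i t)) (B t) := (Spec.preimage (ψ t)).hom.toAlgebra
    have hfl : (algebraMap Γ(S, V (i t)) (B t)).Flat := by
      have := (HasRingHomProperty.Spec_iff (P := @Flat) (φ := Spec.preimage (ψ t))).1 (by
        rw [Spec.map_preimage]; exact hflat)
      exact this
    let a := (hV (i t)).fromSpec
    let F := (toMVF Kf a).obj M
    have hF : adequate Γ(S, V (i t)) F := fppf_adequate_toMVF hM a
    let f : algOf Γ(S, V (i t)) Γ(S, V (i t)) ⟶ algOf Γ(S, V (i t)) (B t) :=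
      CommAlgCat.ofHom (Algebra.ofId Γ(S, V (i t)) (B t))
    obtain ⟨e⟩ := nonempty_emb hF
    haveI : Subsingleton (F.obj (pt (algOf Γ(S, V (i t)) Γ(S, V (i t))))) := by
      haveI := h0 (i t)
      let k : (specOver a).obj (op (algOf Γ(S, V (i t)) Γ(S, V (i t)))) ≅ (BigSite.zarIncl S).obj (V (i t)) :=
        Over.isoMk (hV (i t)).isoSpec.symm (by
          show (hV (i t)).isoSpec.inv ≫ (V (i t)).ι = Spec.map (CommRingCat.ofHom (RingHom.id _)) ≫ a
          rw [CommRingCat.ofHom_id, Spec.map_id, Category.id_comp]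
          rfl)
      refine subsingleton_of_forall_eq 0 fun z => ?_
      have : res FP M k.hom (res FP M k.inv z) = z := by
        rw [← res_comp, Iso.hom_inv_id, res_id]
      rw [← this, Subsingleton.elim (res FP M k.inv z) 0, map_zero]
      rfl
    haveI : Subsingleton (F.obj (pt (algOf Γ(S, V (i t)) (B t)))) := by
      refine subsingleton_of_forall_eq 0 fun z => ?_
      obtain ⟨w, hw⟩ := (bcAdd_bijective f e hfl).2 z
      rw [← hw]
      clear hw
      letI : Algebra Γ(S, V (i t)) (algOf Γ(S, V (i t)) (B t) : Type u) := f.hom.toRingHom.toAlgebra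
      induction w using TensorProduct.induction_on with
      | zero => exact map_zero _
      | tmul b y => rw [bcAdd_tmul, Subsingleton.elim y 0, map_zero, smul_zero]
      | add p q hp hq => rw [map_add, hp, hq, add_zero]
    have hob : Spec.map (CommRingCat.ofHom (algebraMap Γ(S, V (i t)) (B t))) ≫ a = j t ≫ U.hom :=
      (congrArg (· ≫ a) (Spec.map_preimage (ψ t))).trans (hψ t)
    have hkey : ∀ W : Over S, W = (specOver a).obj (op (algOf Γ(S, V (i t)) (B t))) →
        ∀ w : BigSite.sectMod Kf M W, w = 0 := by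
      rintro W rfl w
      exact @Subsingleton.elim (F.obj (pt (algOf Γ(S, V (i t)) (B t)))) this _ _
    rw [map_zero]
    exact hkey _ (congrArg Over.mk hob.symm) _
  tfae_finish

end

end Groth.L23.Adq
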