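import Groth.Agent.L23.AdeqSite.Fppf
import Mathlib.AlgebraicGeometry.Sites.Fpqc
import Mathlib.AlgebraicGeometry.Sites.SheafQuasiCompact

/-!
# Adequate modules are sheaves for the fpqc topology
-/

universe u w

open CategoryTheory Limits Opposite AlgebraicGeometry

set_option backward.isDefEq.respectTransparency.types false
set_option linter.style.haveILetI false

namespace Groth.L23.Adq

open _root_.Adeq

noncomputable section

section Total

variable {S : Scheme.{u}} (F : (Over S)ᵒᵖ ⥤ Type w)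

/-- The presheaf on all schemes of pairs of a map to `S` and a section. -/
def tot : Scheme.{u}ᵒᵖ ⥤ Type (max u w) where
  obj T := Σ h : T.unop ⟶ S, F.obj (op (Over.mk h))
  map {T T'} g := ↾fun p =>
    ⟨g.unop ≫ p.1, F.map (Over.homMk (U := Over.mk (g.unop ≫ p.1)) (V := Over.mk p.1) g.unop rfl).op p.2⟩
  map_id T := by
    refine ConcreteCategory.hom_ext _ _ fun p => ?_
    obtain ⟨h, x⟩ := p
    refine Sigma.ext (Category.id_comp h) ?_
    have key : ∀ (h' : T.unop ⟶ S) (e : Over.mk h' ⟶ Over.mk h), e.left = 𝟙 _ → HEq (F.map e.op x) x := by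
      intro h' e he
      obtain rfl : h' = h := by
        have := Over.w e
        rw [he] at this
        exact this.symm.trans (Category.id_comp h)
      rw [show e = 𝟙 _ from Over.OverMorphism.ext he, op_id, F.map_id]
      rfl
    exact key _ _ rfl
  map_comp {T T' T''} g g' := by
    refine ConcreteCategory.hom_ext _ _ fun p => ?_
    obtain ⟨h, x⟩ := p
    refine Sigma.ext (Category.assoc _ _ _) ?_
    have key : ∀ (h' : T''.unop ⟶ S) (hh : h' = g'.unop ≫ g.unop ≫ h) (e : Over.mk h' ⟶ Over.mk h),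
        e.left = g'.unop ≫ g.unop → HEq (F.map e.op x)
          (F.map (Over.homMk (U := Over.mk (g'.unop ≫ g.unop ≫ h)) (V := Over.mk (g.unop ≫ h)) g'.unop rfl).op
            (F.map (Over.homMk (U := Over.mk (g.unop ≫ h)) (V := Over.mk h) g.unop rfl).op x)) := by
      intro h' hh e he
      subst hh
      refine heq_of_eq ?_
      rw [← Functor.map_comp_apply, ← op_comp]
      exact congrArg (fun t => F.map t x) (congrArg Quiver.Hom.op (Over.OverMorphism.ext he))
    exact key _ (Category.assoc _ _ _) _ rfl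

theorem tot_map_iff {T T' : Scheme.{u}} (g : T' ⟶ T) (p : (tot F).obj (op T)) (q : (tot F).obj (op T')) :
    (tot F).map g.op p = q ↔
      ∃ e : Over.mk q.1 ⟶ Over.mk p.1, e.left = g ∧ F.map e.op p.2 = q.2 := by
  constructor
  · rintro rfl
    exact ⟨Over.homMk (U := Over.mk (g ≫ p.1)) (V := Over.mk p.1) g rfl, rfl, rfl⟩
  · rintro ⟨e, he, hq⟩
    obtain ⟨h', y⟩ := q
    obtain rfl : h' = g ≫ p.1 := (Over.w e).symm.trans (congrArg (· ≫ p.1) he)
    refine Sigma.ext rfl (heq_of_eq ?_)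
    exact (congrArg (fun t => F.map t p.2) (congrArg Quiver.Hom.op
      (Over.OverMorphism.ext (g := e) (show (Over.homMk (U := Over.mk (g ≫ p.1)) (V := Over.mk p.1) g rfl).left =
        e.left from he.symm)))).trans hq

theorem map_congr_left {U V : Over S} (e e' : U ⟶ V) (h : e.left = e'.left) (x : F.obj (op V)) :
    F.map e.op x = F.map e'.op x := by
  rw [Over.OverMorphism.ext h]

theorem map_map_congr {U V V' W : Over S} (e : U ⟶ V) (f : V ⟶ W) (e' : U ⟶ V') (f' : V' ⟶ W)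
    (h : e.left ≫ f.left = e'.left ≫ f'.left) (x : F.obj (op W)) :
    F.map e.op (F.map f.op x) = F.map e'.op (F.map f'.op x) := by
  rw [← Functor.map_comp_apply, ← Functor.map_comp_apply, ← op_comp, ← op_comp]
  exact map_congr_left F _ _ h x

/-- The total presheaf of a sheaf is a sheaf. -/
theorem isSheaf_tot (J : GrothendieckTopology Scheme.{u}) (hS : Presieve.IsSheaf J (yoneda.obj S))
    (hF : Presieve.IsSheaf (J.over S) F) : Presieve.IsSheaf J (tot F) := by
  intro T V hV x hx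
  obtain ⟨h, hh, -⟩ := hS V hV (fun Y g hg => (x g hg).1)
    fun Y₁ Y₂ Z g₁ g₂ f₁ f₂ h₁ h₂ e => congrArg Sigma.fst (hx g₁ g₂ h₁ h₂ e)
  have hfst : ∀ ⦃Y : Scheme.{u}⦄ (g : Y ⟶ T) (hg : V g), g ≫ h = (x g hg).1 := fun Y g hg => hh g hg
  let V' : Sieve (Over.mk h) := (Sieve.overEquiv (Over.mk h)).symm V
  have hV' : V' ∈ J.over S (Over.mk h) := J.overEquiv_symm_mem_over (Over.mk h) V hV
  have hmem : ∀ {Z : Over S} (g : Z ⟶ Over.mk h), V' g → V g.left := fun g hg =>
    (Sieve.overEquiv_symm_iff _ g).1 hg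
  let θ : ∀ {Z : Over S} (g : Z ⟶ Over.mk h) (hg : V g.left), Z ⟶ Over.mk (x g.left hg).1 := fun {Z} g hg =>
    Over.homMk (𝟙 Z.left) ((Category.id_comp _).trans ((hfst g.left hg).symm.trans (Over.w g)))
  let x' : Presieve.FamilyOfElements F V'.arrows := fun Z g hg =>
    F.map (θ g (hmem g hg)).op (x g.left (hmem g hg)).2
  have hx' : x'.Compatible := by
    intro Z₁ Z₂ W k₁ k₂ g₁ g₂ hg₁ hg₂ e
    obtain ⟨e', he', heq⟩ := (tot_map_iff F k₂.left (x g₂.left (hmem g₂ hg₂))
      ((tot F).map k₁.left.op (x g₁.left (hmem g₁ hg₁)))).1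
        (hx k₁.left k₂.left (hmem g₁ hg₁) (hmem g₂ hg₂) (congrArg Over.Hom.left e)).symm
    have w : 𝟙 W.left ≫ k₁.left ≫ (x g₁.left (hmem g₁ hg₁)).1 = W.hom := by
      rw [Category.id_comp, ← hfst g₁.left (hmem g₁ hg₁), ← Over.w k₁, ← Over.w g₁]
      rfl
    let ι₀ : W ⟶ Over.mk (k₁.left ≫ (x g₁.left (hmem g₁ hg₁)).1) := Over.homMk (𝟙 W.left) w
    refine (map_map_congr F k₁ (θ g₁ _) ι₀
      (Over.homMk (U := Over.mk (k₁.left ≫ _)) (V := Over.mk _) k₁.left rfl) ?_ _).trans
        ((congrArg (F.map ι₀.op) heq.symm).trans (map_map_congr F ι₀ e' k₂ (θ g₂ _) ?_ _))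
    · show k₁.left ≫ 𝟙 _ = 𝟙 _ ≫ k₁.left
      rw [Category.comp_id, Category.id_comp]
    · show 𝟙 _ ≫ e'.left = k₂.left ≫ 𝟙 _
      rw [he', Category.comp_id, Category.id_comp]
  obtain ⟨y, hy, hyu⟩ := hF V' hV' x' hx'
  refine ⟨⟨h, y⟩, fun Z g hg => ?_, ?_⟩
  · refine (tot_map_iff F g _ _).2 ⟨Over.homMk g (hfst g hg), rfl, ?_⟩
    refine (hy _ ((Sieve.overEquiv_symm_iff _ (Over.homMk (U := Over.mk (x g hg).1) (V := Over.mk h) g (hfst g hg))).2 hg)).trans ?_
    exact (map_congr_left F _ (𝟙 _) rfl _).trans (Functor.map_id_apply F _ _)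
  · rintro ⟨h', y'⟩ hy'
    obtain rfl : h' = h := (hS V hV).isSeparatedFor.ext fun Z g hg =>
      (congrArg Sigma.fst (hy' g hg)).trans (hfst g hg).symm
    refine Sigma.ext rfl (heq_of_eq (hyu y' fun Z g hg => ?_))
    obtain ⟨e', he', heq⟩ := (tot_map_iff F g.left _ _).1 (hy' g.left (hmem g hg))
    refine Eq.trans ?_ (congrArg (F.map (θ g (hmem g hg)).op) heq)
    rw [← Functor.map_comp_apply, ← op_comp]
    refine map_congr_left F _ _ ?_ _
    show g.left = 𝟙 _ ≫ e'.left
    rw [he', Category.id_comp]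

/-- A presheaf is a sheaf if its total presheaf is. -/
theorem isSheaf_of_tot (J : GrothendieckTopology Scheme.{u}) (hS : Presieve.IsSheaf J (yoneda.obj S))
    (hF : Presieve.IsSheaf J (tot F)) : Presieve.IsSheaf (J.over S) F := by
  intro T V hV x hx
  have hV' : Sieve.overEquiv T V ∈ J T.left := (J.mem_over_iff V).1 hV
  have hmem : ∀ {Z : Scheme.{u}} (g : Z ⟶ T.left), Sieve.overEquiv T V g →
      V (Over.homMk g : Over.mk (g ≫ T.hom) ⟶ T) := fun g hg => (Sieve.overEquiv_iff V g).1 hg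
  let x' : Presieve.FamilyOfElements (tot F) (Sieve.overEquiv T V).arrows := fun Z g hg =>
    ⟨g ≫ T.hom, x (Over.homMk g : Over.mk (g ≫ T.hom) ⟶ T) (hmem g hg)⟩
  have hx' : x'.Compatible := by
    intro Z₁ Z₂ W k₁ k₂ g₁ g₂ hg₁ hg₂ e
    refine ((tot_map_iff F k₂ _ _).2 ⟨Over.homMk (U := Over.mk (k₁ ≫ g₁ ≫ T.hom)) (V := Over.mk (g₂ ≫ T.hom)) k₂
      (((Category.assoc _ _ _).symm.trans (congrArg (· ≫ T.hom) e.symm)).trans (Category.assoc _ _ _)), rfl, ?_⟩).symm
    exact (hx _ _ (hmem g₁ hg₁) (hmem g₂ hg₂) (Over.OverMorphism.ext e)).symm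
  obtain ⟨⟨h, y⟩, hy, hyu⟩ := hF _ hV' x' hx'
  have hh : h = T.hom := (hS _ hV').isSeparatedFor.ext fun Z g hg => congrArg Sigma.fst (hy g hg)
  subst hh
  refine ⟨y, fun Z g hg => ?_, fun y' hy' => ?_⟩
  · have hgl : Sieve.overEquiv T V g.left := by
      refine (Sieve.overEquiv_iff V g.left).2 ?_
      have : (Over.homMk g.left : Over.mk (g.left ≫ T.hom) ⟶ T) =
          Over.homMk (U := Over.mk (g.left ≫ T.hom)) (V := Z) (𝟙 Z.left)
            ((Category.id_comp _).trans (Over.w g).symm) ≫ g :=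
        Over.OverMorphism.ext (Category.id_comp _).symm
      rw [this]
      exact V.downward_closed hg _
    obtain ⟨e', he', heq⟩ := (tot_map_iff F g.left _ _).1 (hy g.left hgl)
    let ι₀ : Z ⟶ Over.mk (g.left ≫ T.hom) := Over.homMk (𝟙 Z.left) ((Category.id_comp _).trans (Over.w g))
    refine Eq.trans ?_ ((congrArg (F.map ι₀.op) heq).trans ((hx ι₀ (𝟙 Z) (hmem g.left hgl) hg
      (Over.OverMorphism.ext ?_)).trans (Functor.map_id_apply F _ _)))
    · rw [← Functor.map_comp_apply, ← op_comp]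
      refine map_congr_left F _ (ι₀ ≫ e') ?_ y
      show g.left = 𝟙 _ ≫ e'.left
      rw [he', Category.id_comp]
    · show 𝟙 Z.left ≫ g.left = 𝟙 Z.left ≫ g.left
      rfl
  · refine eq_of_heq (Sigma.mk.inj_iff.1 (hyu ⟨T.hom, y'⟩ fun Z g hg => ?_)).2
    exact (tot_map_iff F g _ _).2 ⟨Over.homMk g rfl, rfl, hy' _ (hmem g hg)⟩

end Total

section Adequate

variable (P : MorphismProperty Scheme.{u}) [BigSite.OSh (Scheme.precoverage P)] {S : Scheme.{u}}

local notation "K" => Scheme.precoverage P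

theorem isSheafFor_tot_spec (M : BigSite.Mod K S)
    (h : ∀ (R : CommRingCat.{u}) (a : Spec R ⟶ S), adequate R ((toMVF K a).obj M))
    {R B : CommRingCat.{u}} (φ : R ⟶ B) (hf : Flat (Spec.map φ)) (hs : Surjective (Spec.map φ)) :
    Presieve.IsSheafFor (tot (((BigSite.toAbMod K S).obj M).obj ⋙ forget Ab.{u + 1})) (.singleton (Spec.map φ)) := by
  set G := ((BigSite.toAbMod K S).obj M).obj ⋙ forget Ab.{u + 1}
  letI : Algebra R B := φ.hom.toAlgebra
  haveI : Module.Flat R B :=
    RingHom.flat_algebraMap_iff.1 ((HasRingHomProperty.Spec_iff (P := @Flat) (φ := φ)).1 hf)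
  haveI : Module.FaithfullyFlat R B := Module.FaithfullyFlat.of_comap_surjective fun x => hs.surj x
  haveI : QuasiCompact (Spec.map φ) := inferInstance
  rw [Presieve.isSheafFor_singleton]
  rintro ⟨c, t⟩ ht
  let a : Spec R ⟶ S := EffectiveEpi.desc (Spec.map φ) c fun g₁ g₂ e => congrArg Sigma.fst (ht g₁ g₂ e)
  have hac : Spec.map φ ≫ a = c := EffectiveEpi.fac _ _ _
  obtain ⟨hinj, hex⟩ := adequate_descent (B := (B : Type u)) (nonempty_emb (h R a)).some
  let ι₁ : (specOver a).obj (op (algOf R B)) ⟶ Over.mk c :=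
    Over.homMk (U := Over.mk (Spec.map (CommRingCat.ofHom (algebraMap R B)) ≫ a)) (𝟙 (Spec B))
      ((Category.id_comp c).trans hac.symm)
  let ι₂ : Over.mk c ⟶ (specOver a).obj (op (algOf R B)) :=
    Over.homMk (V := Over.mk (Spec.map (CommRingCat.ofHom (algebraMap R B)) ≫ a)) (𝟙 (Spec B))
      ((Category.id_comp _).trans hac)
  let y₀ : ((toMVF K a).obj M).obj (pt (algOf R B)) := res P M ι₁ t
  obtain ⟨x₀, hx₀⟩ := hex y₀ (by
    have hc : Spec.map (CommRingCat.ofHom (coL (R := R) (B := B)).hom.toRingHom) ≫ Spec.map φ =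
        Spec.map (CommRingCat.ofHom (coR (R := R) (B := B)).hom.toRingHom) ≫ Spec.map φ := by
      rw [← Spec.map_comp, ← Spec.map_comp]
      refine congrArg Spec.map (CommRingCat.hom_ext (RingHom.ext fun r => ?_))
      exact ((coL (R := R) (B := B)).hom.commutes r).trans ((coR (R := R) (B := B)).hom.commutes r).symm
    obtain ⟨e', he', heq⟩ := (tot_map_iff G _ _ _).1 (ht _ _ hc).symm
    show res P M (soMap a coL) (res P M ι₁ t) = res P M (soMap a coR) (res P M ι₁ t)
    let L := Spec.map (CommRingCat.ofHom (coL (R := R) (B := B)).hom.toRingHom)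
    let ι₀ : (specOver a).obj (op (algOf R (TensorProduct R B B))) ⟶ Over.mk (L ≫ c) :=
      Over.homMk (U := (specOver a).obj (op (algOf R (TensorProduct R B B))))
        (𝟙 (Spec (CommRingCat.of (TensorProduct R B B))))
        ((Category.id_comp _).trans ((congrArg (L ≫ ·) hac.symm).trans
          (Over.w (soMap a (coL (R := R) (B := B))))))
    refine (map_map_congr G (soMap a coL) ι₁ ι₀ (Over.homMk (U := Over.mk (L ≫ c)) (V := Over.mk c) L rfl) ?_ t).trans
      ((congrArg (G.map ι₀.op) heq.symm).trans (map_map_congr G ι₀ e' (soMap a coR) ι₁ ?_ t))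
    · exact (Category.comp_id L).trans (Category.id_comp L).symm
    · refine (congrArg (𝟙 (Spec (CommRingCat.of (TensorProduct R B B))) ≫ ·) he').trans ?_
      exact (Category.id_comp _).trans (Category.comp_id _).symm)
  let p₀ : (tot G).obj (op (Spec R)) := ⟨((specOver a).obj (op (algOf R R))).hom, x₀⟩
  have hid : ((specOver a).obj (op (algOf R R))).hom = a := by
    show Spec.map (CommRingCat.ofHom (RingHom.id R)) ≫ a = a
    rw [CommRingCat.ofHom_id, Spec.map_id, Category.id_comp]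
  refine ⟨p₀, (tot_map_iff G _ _ _).2 ⟨ι₂ ≫ soMap a toB, ?_, ?_⟩, ?_⟩
  · exact Category.id_comp (Spec.map φ)
  · show res P M (ι₂ ≫ soMap a toB) x₀ = t
    refine (res_comp P M _ _ x₀).trans ((congrArg (res P M ι₂) hx₀).trans ?_)
    refine (res_comp P M ι₂ ι₁ t).symm.trans ?_
    refine (congrArg (fun k => res P M k t) (Over.OverMorphism.ext (g := 𝟙 (Over.mk c)) ?_)).trans (res_id P M t)
    exact Category.id_comp (𝟙 (Spec B))
  · rintro ⟨h', y'⟩ hy'
    obtain rfl : h' = a := (cancel_epi (Spec.map φ)).1 ((congrArg Sigma.fst hy').trans hac.symm)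
    obtain ⟨e', he', heq⟩ := (tot_map_iff G _ _ _).1 hy'
    let η : (specOver a).obj (op (algOf R R)) ⟶ Over.mk a :=
      Over.homMk (U := (specOver a).obj (op (algOf R R))) (𝟙 (Spec R)) ((Category.id_comp a).trans hid.symm)
    have hx : res P M η y' = x₀ := hinj (by
      refine Eq.trans ?_ hx₀.symm
      show res P M (soMap a toB) (res P M η y') = res P M ι₁ t
      refine Eq.trans ?_ (congrArg (res P M ι₁) heq)
      refine map_map_congr G (soMap a toB) η ι₁ e' ?_ y'
      refine (Category.comp_id (Spec.map φ)).trans (Eq.trans ?_ (congrArg (𝟙 (Spec B) ≫ ·) he').symm)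
      exact (Category.id_comp _).symm)
    have key : (tot G).map (𝟙 (Spec R)).op ⟨a, y'⟩ = p₀ := (tot_map_iff G _ _ _).2 ⟨η, rfl, hx⟩
    rw [op_id, Functor.map_id_apply] at key
    exact key

theorem isSheaf_fpqc (hZ : Scheme.zariskiTopology.{u} ≤ (K).toGrothendieck) (M : BigSite.Mod K S)
    (h : ∀ (R : CommRingCat.{u}) (a : Spec R ⟶ S), adequate R ((toMVF K a).obj M)) :
    Presheaf.IsSheaf (QuotSh.J Scheme.fpqcPrecoverage S) ((BigSite.toAbMod K S).obj M).obj := by
  refine (Presheaf.isSheaf_iff_isSheaf_forget _ _ (forget Ab.{u + 1})).2 ((isSheaf_iff_isSheaf_of_type _ _).2 ?_)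
  refine isSheaf_of_tot _ Scheme.fpqcTopology
    (GrothendieckTopology.Subcanonical.isSheaf_of_isRepresentable _) ?_
  rw [Scheme.fpqcTopology_eq_propQCTopology, isSheaf_type_propQCTopology_iff]
  refine ⟨isSheaf_tot _ _ (GrothendieckTopology.Subcanonical.isSheaf_of_isRepresentable _) ?_,
    fun φ hf hs => isSheafFor_tot_spec P M h φ hf hs⟩
  have hM := (isSheaf_iff_isSheaf_of_type _ _).1
    ((Presheaf.isSheaf_iff_isSheaf_forget _ _ (forget Ab.{u + 1})).1 ((BigSite.toAbMod K S).obj M).property)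
  refine Presieve.isSheaf_of_le _ ?_ hM
  intro Y V hV
  exact ((K).toGrothendieck.mem_over_iff V).2 (hZ Y.left ((Scheme.zariskiTopology.mem_over_iff V).1 hV))

theorem fppf_isSheaf_fpqc (M : BigSite.Mod Scheme.fppfPrecoverage S)
    (hM : adequateMod Scheme.fppfPrecoverage S M) :
    Presheaf.IsSheaf (QuotSh.J Scheme.fpqcPrecoverage S) ((BigSite.toAbMod Scheme.fppfPrecoverage S).obj M).obj :=
  isSheaf_fpqc FP (Precoverage.toGrothendieck_mono Scheme.zariskiPrecoverage_le_fppfPrecoverage) M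
    fun _ a => fppf_adequate_toMVF hM a

theorem zariski_isSheaf_fpqc (M : BigSite.Mod Scheme.zariskiPrecoverage S)
    (hM : adequateMod Scheme.zariskiPrecoverage S M) :
    Presheaf.IsSheaf (QuotSh.J Scheme.fpqcPrecoverage S) ((BigSite.toAbMod Scheme.zariskiPrecoverage S).obj M).obj :=
  isSheaf_fpqc @IsOpenImmersion le_rfl M fun _ a => zariski_adequate_toMVF hM a

end Adequate

end

end Groth.L23.Adq
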