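import Groth.Prelude.Def_Adeq2
import Groth.Agent.L23.AdeqSite.Family
import Mathlib.AlgebraicGeometry.Morphisms.UniversallyOpen
import Mathlib.AlgebraicGeometry.Morphisms.FinitePresentation

/-!
# Gluing sections over affine families; local nature of adequacy
-/

universe u w

open CategoryTheory Limits Opposite AlgebraicGeometry

set_option backward.isDefEq.respectTransparency.types false
set_option linter.style.haveILetI false

namespace Groth.L23.Adq

open _root_.Adeq

noncomputable section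

variable (P : MorphismProperty Scheme.{u}) [BigSite.OSh (Scheme.precoverage P)] {S : Scheme.{u}}

local notation "K" => Scheme.precoverage P

/-- Restriction of sections. -/
def res (M : BigSite.Mod K S) {U V : Over S} (f : U ⟶ V) : BigSite.sectMod K M V →+ BigSite.sectMod K M U :=
  (M.val.presheaf.map f.op).hom

theorem res_comp (M : BigSite.Mod K S) {U V W : Over S} (f : U ⟶ V) (g : V ⟶ W) (x : BigSite.sectMod K M W) :
    res P M (f ≫ g) x = res P M f (res P M g x) :=
  ConcreteCategory.congr_hom (M.val.presheaf.map_comp g.op f.op) x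

theorem res_id (M : BigSite.Mod K S) {U : Over S} (x : BigSite.sectMod K M U) :
    res P M (𝟙 U) x = x :=
  ConcreteCategory.congr_hom (M.val.presheaf.map_id (op U)) x

theorem res_smul (M : BigSite.Mod K S) {U V : Over S} (f : U ⟶ V)
    (r : (BigSite.ORing K S).obj.obj (op V)) (x : BigSite.sectMod K M V) :
    res P M f (r • x) = (BigSite.ORing K S).obj.map f.op r • res P M f x :=
  PresheafOfModules.map_smul M.val f.op r x

/-- Jointly surjective families with the property generate covering sieves of the big site. -/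
theorem ofArrows_mem_overJ {T : Over S} {ι : Type u} (U : ι → Over S) (g : ∀ i, U i ⟶ T)
    (hP : ∀ i, P (g i).left) (hs : ∀ t : ↥T.left, ∃ i y, (g i).left y = t) :
    Sieve.ofArrows U g ∈ QuotSh.J K S T := by
  rw [GrothendieckTopology.mem_over_iff]
  let 𝒰 : Scheme.Cover.{u} K T.left :=
    Scheme.Cover.mkOfCovers ι (fun i => (U i).left) (fun i => (g i).left) hs hP
  refine GrothendieckTopology.superset_covering _ ?_ (Precoverage.generate_mem_toGrothendieck 𝒰.mem₀)
  rintro W v ⟨Z, a, _, ⟨i⟩, rfl⟩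
  refine (Sieve.overEquiv_iff (Y := T) _ _).2 ?_
  refine ⟨U i, Over.homMk a (by
    show a ≫ (U i).hom = (a ≫ (g i).left) ≫ T.hom
    rw [Category.assoc]
    exact congrArg _ (Over.w (g i)).symm), g i, ⟨i⟩, Over.OverMorphism.ext rfl⟩

/-- Sections glue along covering families. -/
theorem exists_glue (M : BigSite.Mod K S) {T : Over S} {ι : Type u} (U : ι → Over S) (g : ∀ i, U i ⟶ T)
    (hP : ∀ i, P (g i).left) (hs : ∀ t : ↥T.left, ∃ i y, (g i).left y = t)
    (x : ∀ i, BigSite.sectMod K M (U i))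
    (hx : ∀ i j (W : Over S) (a : W ⟶ U i) (b : W ⟶ U j), a ≫ g i = b ≫ g j → res P M a (x i) = res P M b (x j)) :
    ∃ y : BigSite.sectMod K M T, ∀ i, res P M (g i) y = x i := by
  have hF := (isSheaf_iff_isSheaf_of_type _ _).1
    ((Presheaf.isSheaf_iff_isSheaf_forget _ _ (forget AddCommGrpCat.{u + 1})).1 M.isSheaf)
  obtain ⟨y, hy, -⟩ := (Presieve.isSheafFor_arrows_iff _ _).1
    ((Presieve.isSheafFor_iff_generate _).2 (hF _ (ofArrows_mem_overJ P U g hP hs))) x hx
  exact ⟨y, hy⟩

/-- Sections are determined on covering families. -/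
theorem eq_of_res_eq (M : BigSite.Mod K S) {T : Over S} {ι : Type u} (U : ι → Over S) (g : ∀ i, U i ⟶ T)
    (hP : ∀ i, P (g i).left) (hs : ∀ t : ↥T.left, ∃ i y, (g i).left y = t) (y y' : BigSite.sectMod K M T)
    (h : ∀ i, res P M (g i) y = res P M (g i) y') : y = y' := by
  have hF := (isSheaf_iff_isSheaf_of_type _ _).1
    ((Presheaf.isSheaf_iff_isSheaf_forget _ _ (forget AddCommGrpCat.{u + 1})).1 M.isSheaf)
  exact ((Presieve.isSheafFor_iff_generate _).2 (hF _ (ofArrows_mem_overJ P U g hP hs))).isSeparatedFor.ext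
    fun V f ⟨i⟩ => h i

section Affine

variable {R : CommRingCat.{u}} (a : Spec R ⟶ S)

/-- The map of the big site induced by a map of algebras. -/
abbrev soMap {B B' : Alg R} (f : B ⟶ B') : (specOver a).obj (op B') ⟶ (specOver a).obj (op B) :=
  (specOver a).map f.op

theorem tr_toMVF (M : BigSite.Mod K S) {B B' : Alg R} (f : B ⟶ B') (x) :
    tr ((toMVF K a).obj M) f x = res P M (soMap a f) x := rfl

/-- An identity of schemes over `S`. -/
def overId {X : Scheme.{u}} (f g : X ⟶ S) (h : f = g) : Over.mk f ⟶ Over.mk g :=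
  Over.homMk (𝟙 X) (by subst h; exact Category.id_comp f)

theorem comp_algebraMap_eq (C : CommRingCat.{u}) [Algebra R C] (B : Alg C) :
    Spec.map (CommRingCat.ofHom (algebraMap C B)) ≫ Spec.map (CommRingCat.ofHom (algebraMap R C)) ≫ a =
      Spec.map (CommRingCat.ofHom ((algebraMap C B).comp (algebraMap R C))) ≫ a := by
  rw [CommRingCat.ofHom_comp, Spec.map_comp, Category.assoc]

/-- The comparison of objects for restriction to an algebra. -/
def restrObjHom (C : CommRingCat.{u}) [Algebra R C] (B : Alg C) :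
    (specOver (Spec.map (CommRingCat.ofHom (algebraMap R C)) ≫ a)).obj (op B) ⟶
      (specOver a).obj (op ((Alg.restr R C).obj B)) :=
  overId (X := Spec (CommRingCat.of (B : Type u))) _ _ (comp_algebraMap_eq a C B)

/-- The inverse comparison of objects for restriction to an algebra. -/
def restrObjInv (C : CommRingCat.{u}) [Algebra R C] (B : Alg C) :
    (specOver a).obj (op ((Alg.restr R C).obj B)) ⟶
      (specOver (Spec.map (CommRingCat.ofHom (algebraMap R C)) ≫ a)).obj (op B) :=
  overId (X := Spec (CommRingCat.of (B : Type u))) _ _ (comp_algebraMap_eq a C B).symm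

theorem appTop_eq_id {X : Scheme.{u}} (h : X ⟶ X) (hh : h = 𝟙 X) (x : Γ(X, ⊤)) : h.appTop x = x := by
  subst hh
  rw [Scheme.Hom.id_appTop]
  rfl

theorem square_id {X Y : Scheme.{u}} (q : X ⟶ Y) (e : X ⟶ X) (e' : Y ⟶ Y) (he : e = 𝟙 X) (he' : e' = 𝟙 Y) :
    e ≫ q = q ≫ e' := by
  subst he he'
  rw [Category.id_comp, Category.comp_id]

/-- The functor of a module restricted to an algebra. -/
theorem restr_toMVF (C : CommRingCat.{u}) [Algebra R C] (M : BigSite.Mod K S) :
    Nonempty ((restr R C).obj ((toMVF K a).obj M) ≅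
      (toMVF K (Spec.map (CommRingCat.ofHom (algebraMap R C)) ≫ a)).obj M) := by
  let φ : (restr R C).obj ((toMVF K a).obj M) ⟶
      (toMVF K (Spec.map (CommRingCat.ofHom (algebraMap R C)) ≫ a)).obj M :=
    mkHom (fun B =>
      { toFun := fun x => res P M (restrObjHom a C B) x
        map_add' := fun x y => map_add _ x y
        map_smul' := fun b x => by
          refine (res_smul P M _ (toSect K a ((Alg.restr R C).obj B) b) x).trans ?_
          refine congrArg (· • res P M _ x) (ULift.ext _ _ ?_)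
          exact appTop_eq_id (X := Spec (CommRingCat.of (B : Type u))) (restrObjHom a C B).left rfl
            ((Scheme.ΓSpecIso (CommRingCat.of (B : Type u))).inv b) })
      fun B B' f x => by
        show res P M _ (res P M _ x) = res P M _ (res P M _ x)
        rw [← res_comp, ← res_comp]
        exact congrArg (fun t => res P M t x) (Over.OverMorphism.ext
          (square_id (X := Spec (CommRingCat.of (B' : Type u))) (Y := Spec (CommRingCat.of (B : Type u)))
            (Spec.map (CommRingCat.ofHom f.hom.toRingHom)) (restrObjHom a C B').left (restrObjHom a C B).left rfl rfl))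
  haveI : IsIso φ := isIso_of_bijective φ fun B => by
    have h1 : restrObjHom a C B ≫ restrObjInv a C B = 𝟙 _ :=
      Over.OverMorphism.ext (Category.id_comp (𝟙 (Spec (CommRingCat.of (B : Type u)))))
    have h2 : restrObjInv a C B ≫ restrObjHom a C B = 𝟙 _ :=
      Over.OverMorphism.ext (Category.id_comp (𝟙 (Spec (CommRingCat.of (B : Type u)))))
    refine Function.bijective_iff_has_inverse.2 ⟨fun x => res P M (restrObjInv a C B) x, fun x => ?_, fun x => ?_⟩
    · show res P M _ (res P M _ x) = x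
      exact (res_comp P M _ _ _).symm.trans ((congrArg (fun t => res P M t x) h2).trans (res_id P M _))
    · show res P M _ (res P M _ x) = x
      exact (res_comp P M _ _ _).symm.trans ((congrArg (fun t => res P M t x) h1).trans (res_id P M _))
  exact ⟨asIso φ⟩

/-- The base changed map of spectra. -/
abbrev unitSpec (C : CommRingCat.{u}) [Algebra R C] (B : Alg R) :
    Spec (CommRingCat.of (TensorProduct R C B)) ⟶ Spec (CommRingCat.of (B : Type u)) :=
  Spec.map (CommRingCat.ofHom (Algebra.TensorProduct.includeRight (R := R) (A := C) (B := B)).toRingHom)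

theorem unitSpec_eq (C : CommRingCat.{u}) [Algebra R C] (B : Alg R) :
    (pullbackSpecIso R C B).inv ≫ pullback.snd (Spec.map (CommRingCat.ofHom (algebraMap R C)))
      (Spec.map (CommRingCat.ofHom (algebraMap R B))) = unitSpec C B :=
  pullbackSpecIso_inv_snd R C B

variable [P.IsStableUnderBaseChange]

theorem prop_unit (C : CommRingCat.{u}) [Algebra R C] (hC : P (Spec.map (CommRingCat.ofHom (algebraMap R C))))
    (B : Alg R) : P (soMap a (Alg.unit R C B)).left := by
  have h : P (unitSpec C B) := by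
    rw [← unitSpec_eq, P.cancel_left_of_respectsIso]
    exact MorphismProperty.pullback_snd _ _ hC
  exact h

theorem surj_unitSpec {κ : Type u} (C : κ → CommRingCat.{u}) [∀ k, Algebra R (C k)]
    (hs : ∀ x : ↥(Spec R), ∃ k y, Spec.map (CommRingCat.ofHom (algebraMap R (C k))) y = x)
    (B : Alg R) (t : ↥(Spec (CommRingCat.of (B : Type u)))) : ∃ k y, unitSpec (C k) B y = t := by
  obtain ⟨k, y, hy⟩ := hs (Spec.map (CommRingCat.ofHom (algebraMap R B)) t)
  obtain ⟨z, -, hz⟩ := Scheme.Pullback.exists_preimage_pullback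
    (f := Spec.map (CommRingCat.ofHom (algebraMap R (C k))))
    (g := Spec.map (CommRingCat.ofHom (algebraMap R B))) y t hy
  refine ⟨k, (pullbackSpecIso R (C k) B).hom z, ?_⟩
  rw [← unitSpec_eq, ← Scheme.Hom.comp_apply, Iso.hom_inv_id_assoc]
  exact hz

theorem surj_unit {κ : Type u} (C : κ → CommRingCat.{u}) [∀ k, Algebra R (C k)]
    (hs : ∀ x : ↥(Spec R), ∃ k y, Spec.map (CommRingCat.ofHom (algebraMap R (C k))) y = x)
    (B : Alg R) (t : ↥((specOver a).obj (op B)).left) :
    ∃ k y, (soMap a (Alg.unit R (C k) B)).left y = t :=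
  surj_unitSpec C hs B t

theorem exists_ring_factor (D : CommRingCat.{u}) [Algebra R D] {B X : Alg R} (iX : B ⟶ X) (T : CommRingCat.{u})
    (α : (X : Type u) →+* T) (β : TensorProduct R D B →+* T)
    (h : ∀ b : B, α (iX.hom b) = β ((1 : D) ⊗ₜ[R] b)) :
    ∃ γ : TensorProduct R D X →+* T, (∀ x : X, γ ((1 : D) ⊗ₜ[R] x) = α x) ∧
      ∀ z, γ (Algebra.TensorProduct.map (AlgHom.id D D) iX.hom z) = β z := by
  letI : Algebra R T := (α.comp (algebraMap R X)).toAlgebra
  let jr : (X : Type u) →ₐ[R] T := { α with commutes' := fun _ => rfl }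
  let jl : D →ₐ[R] T :=
    { β.comp (Algebra.TensorProduct.includeLeftRingHom (R := R) (A := D) (B := B)) with
      commutes' := fun r => by
        show β ((algebraMap R D r) ⊗ₜ[R] (1 : B)) = α (algebraMap R X r)
        rw [Algebra.algebraMap_eq_smul_one, TensorProduct.smul_tmul, ← Algebra.algebraMap_eq_smul_one, ← h,
          iX.hom.commutes] }
  let γ : TensorProduct R D X →ₐ[R] T := Algebra.TensorProduct.lift jl jr fun _ _ => Commute.all _ _
  refine ⟨γ.toRingHom, fun x => ?_, fun z => ?_⟩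
  · show γ ((1 : D) ⊗ₜ[R] x) = α x
    rw [Algebra.TensorProduct.lift_tmul, map_one, one_mul]
    rfl
  · induction z using TensorProduct.induction_on with
    | zero => rw [map_zero, map_zero, map_zero]
    | tmul c b =>
      show γ (Algebra.TensorProduct.map (AlgHom.id D D) iX.hom (c ⊗ₜ[R] b)) = β (c ⊗ₜ[R] b)
      rw [Algebra.TensorProduct.map_tmul, Algebra.TensorProduct.lift_tmul]
      show β (c ⊗ₜ[R] (1 : B)) * α (iX.hom b) = β (c ⊗ₜ[R] b)
      rw [h, ← map_mul, Algebra.TensorProduct.tmul_mul_tmul, mul_one, one_mul]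
    | add x y hx hy => rw [map_add, map_add, hx, hy, map_add]

theorem exists_spec_factor {W : Scheme.{u}} {B' X' Y' Q : CommRingCat.{u}} (iX : B' ⟶ X') (iY : B' ⟶ Y')
    (j₁ : X' ⟶ Q) (j₂ : Y' ⟶ Q)
    (hQ : ∀ (T : CommRingCat.{u}) (α : X' ⟶ T) (β : Y' ⟶ T), iX ≫ α = iY ≫ β → ∃ γ : Q ⟶ T, j₁ ≫ γ = α ∧ j₂ ≫ γ = β)
    (f : W ⟶ Spec X') (g : W ⟶ Spec Y') (h : f ≫ Spec.map iX = g ≫ Spec.map iY) :
    ∃ e : W ⟶ Spec Q, e ≫ Spec.map j₁ = f ∧ e ≫ Spec.map j₂ = g := by
  have h2 := congrArg (fun t => (Scheme.ΓSpecIso B').inv ≫ t.appTop) h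
  simp only [Scheme.Hom.comp_appTop] at h2
  rw [← Scheme.ΓSpecIso_inv_naturality_assoc, ← Scheme.ΓSpecIso_inv_naturality_assoc] at h2
  obtain ⟨γ, hγ₁, hγ₂⟩ := hQ _ _ _ h2
  refine ⟨W.toSpecΓ ≫ Spec.map γ, ?_, ?_⟩
  all_goals
    refine ext_of_isAffine ((cancel_epi (Scheme.ΓSpecIso _).inv).1 ?_)
  · rw [Scheme.Hom.comp_appTop, Scheme.Hom.comp_appTop, Scheme.toSpecΓ_appTop,
      ← Scheme.ΓSpecIso_inv_naturality_assoc, ← Scheme.ΓSpecIso_inv_naturality_assoc, Iso.inv_hom_id, Category.comp_id, hγ₁]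
  · rw [Scheme.Hom.comp_appTop, Scheme.Hom.comp_appTop, Scheme.toSpecΓ_appTop,
      ← Scheme.ΓSpecIso_inv_naturality_assoc, ← Scheme.ΓSpecIso_inv_naturality_assoc, Iso.inv_hom_id, Category.comp_id, hγ₂]

theorem exists_pair_factor (D : CommRingCat.{u}) [Algebra R D] {B X : Alg R} (iX : B ⟶ X) (W : Over S)
    (f : W ⟶ (specOver a).obj (op X))
    (g : W ⟶ (specOver a).obj (op ((Alg.restr R D).obj ((Alg.baseChange R D).obj B))))
    (h : f ≫ soMap a iX = g ≫ soMap a (Alg.unit R D B)) :
    ∃ e : W ⟶ (specOver a).obj (op ((Alg.restr R D).obj ((Alg.baseChange R D).obj X))),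
      e ≫ soMap a (Alg.unit R D X) = f ∧
      e ≫ soMap a ((Alg.restr R D).map ((Alg.baseChange R D).map iX)) = g := by
  obtain ⟨e, he₁, he₂⟩ := exists_spec_factor (W := W.left) (B' := CommRingCat.of (B : Type u))
    (X' := CommRingCat.of (X : Type u)) (Y' := CommRingCat.of (TensorProduct R D B))
    (Q := CommRingCat.of (TensorProduct R D X)) (CommRingCat.ofHom iX.hom.toRingHom)
    (CommRingCat.ofHom (Algebra.TensorProduct.includeRight (R := R) (A := D) (B := B)).toRingHom)
    (CommRingCat.ofHom (Algebra.TensorProduct.includeRight (R := R) (A := D) (B := X)).toRingHom)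
    (CommRingCat.ofHom (Algebra.TensorProduct.map (AlgHom.id D D) iX.hom).toRingHom)
    (fun T α β hab => by
      obtain ⟨γ, h₁, h₂⟩ := exists_ring_factor D iX T α.hom β.hom fun b => ConcreteCategory.congr_hom hab b
      exact ⟨CommRingCat.ofHom γ, CommRingCat.hom_ext (RingHom.ext h₁), CommRingCat.hom_ext (RingHom.ext h₂)⟩)
    f.left g.left (congrArg Over.Hom.left h)
  exact ⟨Over.homMk e ((congrArg (e ≫ ·) (Over.w (soMap a (Alg.unit R D X))).symm).trans
    ((Category.assoc _ _ _).symm.trans ((congrArg (· ≫ ((specOver a).obj (op X)).hom) he₁).trans (Over.w f)))),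
    Over.OverMorphism.ext he₁, Over.OverMorphism.ext he₂⟩

/-- Sections satisfy descent along finite affine families. -/
theorem adequate_of_cover (M : BigSite.Mod K S) {κ : Type u} [Fintype κ] (C : κ → CommRingCat.{u})
    [∀ k, Algebra R (C k)] (hP : ∀ k, P (Spec.map (CommRingCat.ofHom (algebraMap R (C k)))))
    (hs : ∀ x : ↥(Spec R), ∃ k y, Spec.map (CommRingCat.ofHom (algebraMap R (C k))) y = x)
    (h : ∀ k, adequate (C k) ((toMVF K (Spec.map (CommRingCat.ofHom (algebraMap R (C k))) ≫ a)).obj M)) :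
    adequate R ((toMVF K a).obj M) := by
  refine adequate_of_family (fun k => (C k : Type u)) _
    (fun k => (adequate (C k)).prop_of_iso (restr_toMVF P a (C k) M).some.symm (h k)) (fun B x hx => ?_)
    fun B y hy => ?_
  · refine eq_of_res_eq P M _ (fun k => soMap a (Alg.unit R (C k) B))
      (fun k => prop_unit P a (C k) (hP k) B) (surj_unit a C hs B) x 0 fun k => ?_
    rw [map_zero]
    exact hx k
  · obtain ⟨x, hx⟩ := exists_glue P M _ (fun k => soMap a (Alg.unit R (C k) B))
      (fun k => prop_unit P a (C k) (hP k) B) (surj_unit a C hs B) y fun k l W f g hfg => by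
        obtain ⟨e, rfl, rfl⟩ := exists_pair_factor a (C l) (Alg.unit R (C k) B) W f g hfg
        rw [res_comp, res_comp]
        exact congrArg (res P M e) (hy k l)
    exact ⟨x, hx⟩

end Affine

variable [P.IsStableUnderBaseChange] [P.IsStableUnderComposition]

/-- A covering family can be refined, over an affine scheme, by a finite affine family. -/
theorem exists_affine_refinement (hI : ∀ {X Y : Scheme.{u}} (f : X ⟶ Y) [IsOpenImmersion f], P f)
    (hO : ∀ {X Y : Scheme.{u}} (f : X ⟶ Y), P f → IsOpenMap f) {R : CommRingCat.{u}} (a : Spec R ⟶ S)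
    {ι : Type w} (X : ι → Scheme.{u}) (b : ∀ i, X i ⟶ S) (hb : Presieve.ofArrows X b ∈ (K).coverings S) :
    ∃ (κ : Type u) (_ : Fintype κ) (C : κ → CommRingCat.{u}) (φ : ∀ k, R ⟶ C k) (i : κ → ι)
      (ψ : ∀ k, Spec (C k) ⟶ X (i k)),
      (∀ k, P (Spec.map (φ k))) ∧ (∀ x : ↥(Spec R), ∃ k y, Spec.map (φ k) y = x) ∧
        ∀ k, ψ k ≫ b (i k) = Spec.map (φ k) ≫ a := by
  classical
  obtain ⟨hs, hP⟩ := (Scheme.ofArrows_mem_precoverage_iff P).1 hb
  have key : ∀ x : ↥(Spec R), ∃ (C : CommRingCat.{u}) (f : Spec C ⟶ Spec R) (i : ι) (ψ : Spec C ⟶ X i),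
      P f ∧ x ∈ Set.range f ∧ ψ ≫ b i = f ≫ a := by
    intro x
    obtain ⟨i, hi⟩ := hs (a x)
    obtain ⟨y, hy⟩ := hi
    obtain ⟨z, hz, -⟩ := Scheme.Pullback.exists_preimage_pullback (f := a) (g := b i) x y hy.symm
    obtain ⟨j, w, hw⟩ := (pullback a (b i)).affineCover.exists_eq z
    refine ⟨_, (pullback a (b i)).affineCover.f j ≫ pullback.fst a (b i), i,
      (pullback a (b i)).affineCover.f j ≫ pullback.snd a (b i),
      P.comp_mem _ _ (@hI _ _ _ ((pullback a (b i)).affineCover.map_prop j))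
        (MorphismProperty.pullback_fst a (b i) (hP i)), ⟨w, ?_⟩, ?_⟩
    · exact (Scheme.Hom.comp_apply _ _ w).trans ((congrArg _ hw).trans hz)
    · rw [Category.assoc, Category.assoc, pullback.condition]
  choose C f i ψ hf hx hψ using key
  obtain ⟨t, ht⟩ := isCompact_univ.elim_finite_subcover (fun x => Set.range (f x))
    (fun x => (hO (f x) (hf x)).isOpen_range) (fun x _ => Set.mem_iUnion.2 ⟨x, hx x⟩)
  refine ⟨t, inferInstance, fun k => C k.1, fun k => Spec.preimage (f k.1), fun k => i k.1, fun k => ψ k.1,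
    fun k => by rw [Spec.map_preimage]; exact hf k.1, fun x => ?_, fun k => by rw [Spec.map_preimage]; exact hψ k.1⟩
  obtain ⟨x', hx', y, hy⟩ := Set.mem_iUnion₂.1 (ht (Set.mem_univ x))
  exact ⟨⟨x', hx'⟩, y, by rw [Spec.map_preimage]; exact hy⟩

/-- An adequate module gives adequate functors over all affine schemes. -/
theorem adequate_toMVF (hI : ∀ {X Y : Scheme.{u}} (f : X ⟶ Y) [IsOpenImmersion f], P f)
    (hO : ∀ {X Y : Scheme.{u}} (f : X ⟶ Y), P f → IsOpenMap f) (M : BigSite.Mod K S) (hM : adequateMod K S M)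
    {R : CommRingCat.{u}} (a : Spec R ⟶ S) : adequate R ((toMVF K a).obj M) := by
  obtain ⟨ι, Ri, b, hb, hadq⟩ := hM
  obtain ⟨κ, _, C, φ, i, ψ, hP, hs, hψ⟩ := exists_affine_refinement P hI hO a _ b hb
  letI : ∀ k, Algebra R (C k) := fun k => (φ k).hom.toAlgebra
  refine adequate_of_cover P a M C hP hs fun k => ?_
  letI : Algebra (Ri (i k)) (C k) := (Spec.preimage (ψ k)).hom.toAlgebra
  have h : Spec.map (CommRingCat.ofHom (algebraMap R (C k))) ≫ a =
      Spec.map (CommRingCat.ofHom (algebraMap (Ri (i k)) (C k))) ≫ b (i k) := by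
    refine (hψ k).symm.trans (congrArg (· ≫ b (i k)) ?_)
    exact (Spec.map_preimage (ψ k)).symm
  rw [h]
  exact (adequate (C k)).prop_of_iso (restr_toMVF P (b (i k)) (C k) M).some
    (adequate_restr' (hadq (i k)))

theorem adequateMod_of_forall [P.ContainsIdentities] (hI : ∀ {X Y : Scheme.{u}} (f : X ⟶ Y) [IsOpenImmersion f], P f)
    (M : BigSite.Mod K S) (h : ∀ (R : CommRingCat.{u}) (a : Spec R ⟶ S), adequate R ((toMVF K a).obj M)) :
    adequateMod K S M := by
  refine ⟨S.affineCover.I₀, _, S.affineCover.f, (Scheme.ofArrows_mem_precoverage_iff P).2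
    ⟨fun x => ?_, fun i => @hI _ _ _ (S.affineCover.map_prop i)⟩, fun i => h _ _⟩
  obtain ⟨j, y, hy⟩ := S.affineCover.exists_eq x
  exact ⟨j, y, hy⟩

end

end Groth.L23.Adq
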