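import Groth.Agent.L23.AdeqSite.Fppf
import Groth.Agent.L23.Adeq.Cocycle
import Mathlib.CategoryTheory.Sites.LocallySurjective

/-!
# Sheafification of presheaves of modules with adequate values
-/

universe u

open CategoryTheory Limits Opposite AlgebraicGeometry

set_option backward.isDefEq.respectTransparency.types false
set_option linter.style.haveILetI false

namespace Groth.L23.Adq

open _root_.Adeq

noncomputable section

variable {S : Scheme.{u}}

local notation "Kf" => Scheme.fppfPrecoverage

/-- The affine object itself. -/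
abbrev base {R : CommRingCat.{u}} (a : Spec R ⟶ S) : Over S := (specOver a).obj (op (algOf R R))

section Refinement

variable {R : CommRingCat.{u}} (a : Spec R ⟶ S)

theorem overMk_congr {X : Scheme.{u}} (f g : X ⟶ S) (h : f = g) : Over.mk f = Over.mk g := by rw [h]

theorem spec_id_comp {R : Type u} [CommRing R] (a : Spec (CommRingCat.of R) ⟶ S) :
    Spec.map (CommRingCat.ofHom (RingHom.id R)) ≫ a = a := by
  rw [CommRingCat.ofHom_id, Spec.map_id, Category.id_comp]

theorem base_rfl : base a = Over.mk (Spec.map (CommRingCat.ofHom (RingHom.id R)) ≫ a) := rfl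

theorem specOver_rfl (B : Alg R) :
    (specOver a).obj (op B) = Over.mk (Spec.map (CommRingCat.ofHom (algebraMap R B)) ≫ a) := rfl

theorem base_mk {T : Type u} [CommRing T] (a : Spec (CommRingCat.of T) ⟶ S) :
    base (R := CommRingCat.of T) a = Over.mk a :=
  (base_rfl (R := CommRingCat.of T) a).trans (overMk_congr _ _ (spec_id_comp a))

theorem base_eq (B : Alg R) :
    base (R := CommRingCat.of (B : Type u)) (Spec.map (CommRingCat.ofHom (algebraMap R B)) ≫ a) =
      (specOver a).obj (op B) :=
  (base_mk (T := (B : Type u)) _).trans (specOver_rfl a B).symm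

/-- The map of a member of an affine family. -/
abbrev prMor (C : Type u) [CommRing C] [Algebra R C] : (specOver a).obj (op (algOf R C)) ⟶ base a :=
  soMap a (toB (R := R) (B := C))

theorem prMor_comp_eq {R T : Type u} [CommRing R] [CommRing T] (a : Spec (CommRingCat.of R) ⟶ S)
    (g : Spec (CommRingCat.of T) ⟶ Spec (CommRingCat.of R)) :
    g ≫ a = g ≫ Spec.map (CommRingCat.ofHom (RingHom.id R)) ≫ a := by
  rw [spec_id_comp]

theorem prMor_mem (C : Type u) [CommRing C] [Algebra R C] (V : Sieve (base a))
    (g : Spec (CommRingCat.of C) ⟶ Spec (CommRingCat.of (R : Type u)))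
    (hg : g = Spec.map (CommRingCat.ofHom (algebraMap R C))) (h : Sieve.overEquiv (base a) V g) :
    V (prMor a C) := by
  subst hg
  have h3 := (Sieve.overEquiv_iff (Y := base a) V _).1 h
  have e : prMor a C = overId (X := Spec (CommRingCat.of C)) _ _
      (prMor_comp_eq (R := (R : Type u)) (T := C) a (Spec.map (CommRingCat.ofHom (algebraMap R C)))) ≫
      Over.homMk (U := Over.mk (Spec.map (CommRingCat.ofHom (algebraMap R C)) ≫ (base a).hom)) (V := base a)
        (Spec.map (CommRingCat.ofHom (algebraMap R C))) :=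
    Over.OverMorphism.ext (Category.id_comp (Spec.map (CommRingCat.ofHom (algebraMap R C)))).symm
  rw [e]
  exact V.downward_closed h3 _

theorem exists_finite_refinement (V : Sieve (base a)) (hV : V ∈ QuotSh.J Kf S (base a)) :
    ∃ (κ : Type u) (_ : Fintype κ) (C : κ → Type u) (_ : ∀ k, CommRing (C k)) (_ : ∀ k, Algebra R (C k)),
      (∀ k, FP (prMor a (C k)).left) ∧ (∀ k, Module.Flat R (C k)) ∧
        (∀ x : ↥(base a).left, ∃ k y, (prMor a (C k)).left y = x) ∧
        (∀ x : PrimeSpectrum R, ∃ k y, PrimeSpectrum.comap (algebraMap R (C k)) y = x) ∧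
          ∀ k, V (prMor a (C k)) := by
  rw [GrothendieckTopology.mem_over_iff] at hV
  obtain ⟨W, hW, hle⟩ := Precoverage.mem_toGrothendieck_iff_of_isStableUnderComposition.1 hV
  obtain ⟨𝒰, rfl⟩ := Precoverage.mem_iff_exists_zeroHypercover.mp hW
  obtain ⟨κ, hκ, C, φ, i, ψ, hP, hs, hψ⟩ := exists_affine_refinement FP (fun f _ => fp_of_open f)
    (fun f => isOpenMap_of_fp f) (S := Spec R) (R := R) (𝟙 (Spec R)) 𝒰.X 𝒰.f 𝒰.mem₀
  letI : ∀ k, Algebra R (C k) := fun k => (φ k).hom.toAlgebra
  refine ⟨κ, hκ, fun k => (C k : Type u), fun k => inferInstance, fun k => inferInstance,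
    fun k => hP k, fun k => ?_, hs, hs, fun k => ?_⟩
  · have h := (HasRingHomProperty.Spec_iff (P := @Flat) (φ := φ k)).1 (hP k).1
    exact RingHom.flat_algebraMap_iff.1 h
  · have h2 : Sieve.overEquiv (base a) V (Spec.map (φ k)) := by
      rw [← Category.comp_id (Spec.map (φ k)), ← hψ k]
      exact Sieve.downward_closed _ (hle _ _ ⟨i k⟩) (ψ k)
    exact prMor_mem a (C k : Type u) V (Spec.map (φ k)) rfl h2

/-- The left projection from an overlap. -/
abbrev prL (C D : Type u) [CommRing C] [CommRing D] [Algebra R C] [Algebra R D] :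
    algOf R C ⟶ algOf R (TensorProduct R C D) :=
  CommAlgCat.ofHom (Algebra.TensorProduct.includeLeft : C →ₐ[R] TensorProduct R C D)

/-- The right projection from an overlap. -/
abbrev prR (C D : Type u) [CommRing C] [CommRing D] [Algebra R C] [Algebra R D] :
    algOf R D ⟶ algOf R (TensorProduct R C D) :=
  CommAlgCat.ofHom (Algebra.TensorProduct.includeRight : D →ₐ[R] TensorProduct R C D)

theorem exists_overlap (C D : Type u) [CommRing C] [CommRing D] [Algebra R C] [Algebra R D] (W : Over S)
    (f : W ⟶ (specOver a).obj (op (algOf R C))) (g : W ⟶ (specOver a).obj (op (algOf R D)))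
    (h : f ≫ prMor a C = g ≫ prMor a D) :
    ∃ e : W ⟶ (specOver a).obj (op (algOf R (TensorProduct R C D))),
      e ≫ soMap a (prL C D) = f ∧ e ≫ soMap a (prR C D) = g := by
  obtain ⟨e, he₁, he₂⟩ := exists_spec_factor (W := W.left) (B' := CommRingCat.of R)
    (X' := CommRingCat.of C) (Y' := CommRingCat.of D) (Q := CommRingCat.of (TensorProduct R C D))
    (CommRingCat.ofHom (toB (R := R) (B := C)).hom.toRingHom) (CommRingCat.ofHom (toB (R := R) (B := D)).hom.toRingHom)
    (CommRingCat.ofHom (prL C D).hom.toRingHom) (CommRingCat.ofHom (prR C D).hom.toRingHom)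
    (fun T α β hab => by
      letI : Algebra R T := (α.hom.comp (algebraMap R C)).toAlgebra
      let jl : C →ₐ[R] T := { α.hom with commutes' := fun _ => rfl }
      let jr : D →ₐ[R] T := { β.hom with commutes' := fun r => (ConcreteCategory.congr_hom hab r).symm }
      refine ⟨CommRingCat.ofHom (Algebra.TensorProduct.lift jl jr fun _ _ => Commute.all _ _).toRingHom,
        CommRingCat.hom_ext (RingHom.ext fun c => ?_), CommRingCat.hom_ext (RingHom.ext fun d => ?_)⟩
      · show Algebra.TensorProduct.lift jl jr (fun _ _ => Commute.all _ _) (c ⊗ₜ[R] (1 : D)) = α.hom c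
        rw [Algebra.TensorProduct.lift_tmul, map_one, mul_one]
        rfl
      · show Algebra.TensorProduct.lift jl jr (fun _ _ => Commute.all _ _) ((1 : C) ⊗ₜ[R] d) = β.hom d
        rw [Algebra.TensorProduct.lift_tmul, map_one, one_mul]
        rfl)
    f.left g.left (congrArg Over.Hom.left h)
  exact ⟨Over.homMk e ((congrArg (e ≫ ·) (Over.w (soMap a (prL C D))).symm).trans
    ((Category.assoc _ _ _).symm.trans ((congrArg (· ≫ ((specOver a).obj (op (algOf R C))).hom) he₁).trans (Over.w f)))),
    Over.OverMorphism.ext he₁, Over.OverMorphism.ext he₂⟩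

end Refinement

section Unit

variable (P : PresheafOfModules.{u + 1} (BigSite.ORing Kf S).obj)

/-- The sheafified module. -/
abbrev shf : BigSite.Mod Kf S :=
  (PresheafOfModules.sheafification (𝟙 (BigSite.ORing Kf S).obj)).obj P

/-- The unit of sheafification. -/
abbrev shη : P ⟶ (shf P).val :=
  (PresheafOfModules.sheafificationAdjunction (𝟙 (BigSite.ORing Kf S).obj)).unit.app P

theorem unit_injective_base (h : ∀ (R : CommRingCat.{u}) (a : Spec R ⟶ S), adequate R ((toMVFPre Kf a).obj P))
    {R : CommRingCat.{u}} (a : Spec R ⟶ S) : Function.Injective ((shη P).app (op (base a))) := by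
  classical
  refine (injective_iff_map_eq_zero _).2 fun z hz => ?_
  have hloc := Presheaf.equalizerSieve_mem (QuotSh.J Kf S) (CategoryTheory.toSheafify (QuotSh.J Kf S) P.presheaf)
    (X := op (base a)) z (0 : P.presheaf.obj (op (base a))) (by rw [map_zero]; exact hz)
  obtain ⟨κ, _, C, _, _, -, hflat, -, hcomap, hV⟩ := exists_finite_refinement a _ hloc
  obtain ⟨e⟩ := nonempty_emb (h R a)
  haveI := faithfullyFlat_pi C hflat hcomap
  refine (adequate_descent (B := ∀ k, C k) e).1 ((piDecomp (R := R) C).ext e _ _ fun k => ?_)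
  rw [← tr_comp, ← tr_comp]
  refine Eq.trans ?_ (map_zero (tr ((toMVFPre Kf a).obj P) _)).symm
  refine Eq.trans ?_ ((hV k).trans (map_zero _))
  exact congrArg (fun t => P.presheaf.map t z)
    (congrArg (fun t => (soMap a t).op) (show toB ≫ (piDecomp (R := R) C).p k = toB (B := C k) from
      CommAlgCat.hom_ext (DFunLike.ext _ _ fun _ => rfl)))

theorem unit_injective (h : ∀ (R : CommRingCat.{u}) (a : Spec R ⟶ S), adequate R ((toMVFPre Kf a).obj P))
    {R : CommRingCat.{u}} (a : Spec R ⟶ S) (B : Alg R) :
    Function.Injective ((shη P).app (op ((specOver a).obj (op B)))) := by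
  rw [← base_eq a B]
  exact unit_injective_base P h _

theorem unit_surjective_base (h : ∀ (R : CommRingCat.{u}) (a : Spec R ⟶ S), adequate R ((toMVFPre Kf a).obj P))
    {R : CommRingCat.{u}} (a : Spec R ⟶ S) : Function.Surjective ((shη P).app (op (base a))) := by
  classical
  intro s
  have hsieve := Presheaf.imageSieve_mem (QuotSh.J Kf S) (CategoryTheory.toSheafify (QuotSh.J Kf S) P.presheaf)
    (U := op (base a)) s
  obtain ⟨κ, _, C, _, _, hP, hflat, hsur, hcomap, hV⟩ := exists_finite_refinement a _ hsieve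
  let F := (toMVFPre Kf a).obj P
  obtain ⟨e⟩ := nonempty_emb (h R a)
  haveI := faithfullyFlat_pi C hflat hcomap
  choose x hx using hV
  have hover : ∀ k l, tr F (prL (C k) (C l)) (x k) = tr F (prR (C k) (C l)) (x l) := by
    intro k l
    apply unit_injective P h a
    refine (PresheafOfModules.naturality_apply (shη P) (soMap a (prL (C k) (C l))).op (x k)).trans ?_
    refine Eq.trans ?_ (PresheafOfModules.naturality_apply (shη P) (soMap a (prR (C k) (C l))).op (x l)).symm
    show res FP (shf P) (soMap a (prL (C k) (C l))) _ = res FP (shf P) (soMap a (prR (C k) (C l))) _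
    refine (congrArg (res FP (shf P) _) (hx k)).trans (Eq.trans ?_ (congrArg (res FP (shf P) _) (hx l)).symm)
    refine (res_comp FP (shf P) _ _ s).symm.trans (Eq.trans ?_ (res_comp FP (shf P) _ _ s))
    refine congrArg (fun t => res FP (shf P) t s) ?_
    show soMap a (prL (C k) (C l)) ≫ soMap a toB = soMap a (prR (C k) (C l)) ≫ soMap a toB
    rw [← Functor.map_comp, ← Functor.map_comp, ← op_comp, ← op_comp]
    refine congrArg (soMap a) ?_
    exact CommAlgCat.hom_ext (DFunLike.ext _ _ fun r =>
      (((prL (C k) (C l)).hom).commutes r).trans (((prR (C k) (C l)).hom).commutes r).symm)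
  obtain ⟨y, hy⟩ := (piDecomp (R := R) C).exists_glue e x
  obtain ⟨z, hz⟩ := (adequate_descent (B := ∀ k, C k) e).2 y ((piDecomp₂ (R := R) C).ext e _ _ fun p => by
    rw [← tr_comp, ← tr_comp]
    have hL : coL ≫ (piDecomp₂ (R := R) C).p p = (piDecomp (R := R) C).p p.1 ≫ prL (C p.1) (C p.2) :=
      CommAlgCat.hom_ext (DFunLike.ext _ _ fun _ => rfl)
    have hR : coR ≫ (piDecomp₂ (R := R) C).p p = (piDecomp (R := R) C).p p.2 ≫ prR (C p.1) (C p.2) :=
      CommAlgCat.hom_ext (DFunLike.ext _ _ fun _ => rfl)
    rw [hL, hR, tr_comp, tr_comp, hy, hy]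
    exact hover p.1 p.2)
  refine ⟨z, eq_of_res_eq FP (shf P) _ (fun k => prMor a (C k)) hP hsur _ _ fun k => ?_⟩
  refine (PresheafOfModules.naturality_apply (shη P) (prMor a (C k)).op z).symm.trans ?_
  refine Eq.trans ?_ (hx k)
  refine congrArg ((shη P).app (op ((specOver a).obj (op (algOf R (C k)))))) ?_
  show tr F toB z = x k
  rw [← hy k, ← hz, ← tr_comp]
  exact congrArg (fun (t : algOf R R ⟶ algOf R (C k)) => tr F t z) (CommAlgCat.hom_ext (DFunLike.ext _ _ fun _ => rfl))

theorem unit_bijective (h : ∀ (R : CommRingCat.{u}) (a : Spec R ⟶ S), adequate R ((toMVFPre Kf a).obj P))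
    {R : CommRingCat.{u}} (a : Spec R ⟶ S) (B : Alg R) :
    Function.Bijective ((shη P).app (op ((specOver a).obj (op B)))) := by
  rw [← base_eq a B]
  exact ⟨unit_injective_base P h _, unit_surjective_base P h _⟩

theorem adequate_shf (h : ∀ (R : CommRingCat.{u}) (a : Spec R ⟶ S), adequate R ((toMVFPre Kf a).obj P))
    {R : CommRingCat.{u}} (a : Spec R ⟶ S) : adequate R ((toMVF Kf a).obj (shf P)) := by
  exact (adequate R).prop_of_iso (@asIso _ _ _ _ ((toMVFPre Kf a).map (shη P))
    (isIso_of_bijective _ fun B => unit_bijective P h a B)) (h R a)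

theorem adequateMod_shf (h : ∀ (R : CommRingCat.{u}) (a : Spec R ⟶ S), adequate R ((toMVFPre Kf a).obj P)) :
    adequateMod Kf S (shf P) :=
  fppf_adequateMod_of_forall _ fun _ a => adequate_shf P h a

end Unit

end

end Groth.L23.Adq
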